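import Groth.Agent.EtDepth.K482.EtCore

/-!
# `NodeCore`
-/

set_option autoImplicit false
universe u

open CategoryTheory CategoryTheory.Limits AlgebraicGeometry Opposite

attribute [local instance 5000] CategoryTheory.Abelian.toPreadditive
  CategoryTheory.Preadditive.preadditiveHasZeroMorphisms

namespace K482.EtCore

attribute [local instance] HasDerivedCategory.standard
open scoped Groth.Agent.Sga4h.ModInst
open Groth.Agent Groth.Agent.Sga4h Groth.Agent.Sga4h.Refl Groth.Agent.Sga4h.ModRestr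
  Groth.Agent.Sga4h.BidRed538Main Groth.Agent.Sga4h.BidIndLoc48 K552.OrthD DerivedCategory
  Groth.Agent.Sga4h.EtPts K973.Stmt K813.Emb Groth.Agent.Etdl.H434.Defs Groth.Agent.Sga4h.BidGeoIt
  Groth.Agent.EtDual.K336.BidStep K482.DualBd K973.CoreStmt

section gen

variable {Λ : Type (u + 1)} [CommRing Λ]

/-- The bound on the supports, the functor of single complexes in any presentation. -/
theorem sb_gen {X : Scheme.{u}} (S : EtModW.Mod Λ X ⥤ CochainComplex (EtModW.Mod Λ X) ℤ)
    (h : ∀ (F : EtModW.Mod Λ X) (_ : EtModW.IsConstructible Λ F) (v : X) (q e : ℕ)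
      (_ : ringKrullDim (X.presheaf.stalk v) = e)
      (_ : EtDepth.DepthAtGE X ((EtModD.forgetToAb Λ X).obj F) v q) (p : ℤ) (_ : 2 * (e : ℤ) < p + q),
      IsZero ((stk Λ v).obj (((stdDual Λ X).D (S.obj F)).homology p)))
    (e : S = CochainComplex.singleFunctor (EtModW.Mod Λ X) 0) : SB Λ X := by
  subst e
  exact ⟨h⟩

/-- The dualities, the functor of single complexes in any presentation. -/
theorem gg_gen {X : Scheme.{u}} {m : ℕ} {Z : EtModW.Mod Λ X} {a b : ℤ}
    (S : EtModW.Mod Λ X ⥤ CochainComplex (EtModW.Mod Λ X) ℤ) (h : GData (stdDual Λ X) m (S.obj Z) a b)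
    (e : S = CochainComplex.singleFunctor (EtModW.Mod Λ X) 0) :
    GData (stdDual Λ X) m ((CochainComplex.singleFunctor (EtModW.Mod Λ X) 0).obj Z) a b := by
  subst e
  exact h

/-- The vanishing, the functors of single complexes in any presentation. -/
theorem vv_gen {S' L : Scheme.{u}} {f : L ⟶ S'} (c : DEt.Compactification f) (W : L.Opens)
    (G : EtModW.Mod Λ L) (k : ℤ)
    (h : Subsingleton ((Plus.singleFunctor _ 0).obj (EtModW.constMod Λ S' Λ) ⟶ ((EtDl.RshriekPlus Λ c).obj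
        ((EtDl.pushPlus Λ W.ι).obj ((Plus.singleFunctor _ 0).obj ((EtModW.pull Λ W.ι).obj G))))⟦k⟧))
    (S : EtModW.Mod Λ S' ⥤ Plus (EtModW.Mod Λ S')) (T : EtModW.Mod Λ W.toScheme ⥤ Plus (EtModW.Mod Λ W.toScheme))
    (O : Plus (EtModW.Mod Λ L)) (eO : (EtDl.pushPlus Λ W.ι).obj (T.obj ((EtModW.pull Λ W.ι).obj G)) = O)
    (eT : Plus.singleFunctor (EtModW.Mod Λ W.toScheme) 0 = T) (eS : Plus.singleFunctor (EtModW.Mod Λ S') 0 = S) :
    Subsingleton (S.obj (EtModW.constMod Λ S' Λ) ⟶ ((EtDl.RshriekPlus Λ c).obj O)⟦k⟧) := by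
  subst eT eS eO
  exact h

end gen

theorem sb_of (m : ℕ) (X : Scheme.{u}) (h : SuppBd.{u} m X) : SB (Lam.{u} m) X :=
  sb_gen _ h.out rfl

/-- **NODE CORE**: the vanishing over the punctured spectra of power series rings. -/
theorem main : NodeCore.{u} := by
  intro m hm hArt hD hS K _ _ _ M L _ f _ c W G hG n hd
  have hm0 : 0 < m := hm.pos
  have : NeZero m := ⟨hm0.ne'⟩
  have hΛ : ((m : ℕ) : Lam.{u} m) = 0 := by
    apply ULift.down_injective
    change ((m : ZMod m)) = 0
    exact ZMod.natCast_self m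
  exact ⟨fun k hk => vv_gen c W G k (core hm0 hΛ hArt (fun N => (hD M N K).bid)
    (fun N => gg_gen _ (hD M N K).g rfl) (fun N => sb_of m _ (hS M N K)) f c W G hG n hd k hk) _ _ _ rfl rfl rfl⟩

end K482.EtCore
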