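import Groth.Agent.EtDepth.K973.Stmt
import Groth.Agent.Etdl.H860.HSg
import Groth.Agent.Etdl.H424.PullPushPlus
import Groth.Agent.Sga4h.LFinClass
import Groth.Agent.S0580

/-!
# `Van` and `FinDepth`: from power series rings to complete local rings

* `van_of`, `finDepth_of`: descent along proper morphisms, resp. morphisms of finite type, `S ⟶ T`;
* `exists_closedImmersion`: the punctured spectrum of a complete local ring (equal characteristic zero) is a closed
  subscheme of the punctured spectrum of a power series ring over its residue field;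
* `main`: NODE L3.
-/

set_option autoImplicit false
universe u
open CategoryTheory CategoryTheory.Limits AlgebraicGeometry Opposite
attribute [local instance] HasDerivedCategory.standard

namespace K482.EtL3

open K973.Stmt Groth.Agent Groth.Agent.Etdl.H424 Groth.Agent.Etdl.H860

section Transfer

variable {S T : Scheme.{u}} (i : S ⟶ T)

/-- A compactification of `f ≫ i` for `i` proper. -/
def compC [IsProper i] {L : Scheme.{u}} {f : L ⟶ S} (c : DEt.Compactification f) :
    DEt.Compactification (f ≫ i) where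
  Xbar := c.Xbar
  j := c.j
  fbar := c.fbar ≫ i
  isOpenImmersion := c.isOpenImmersion
  isProper := inferInstance
  fac := by rw [← Category.assoc, c.fac]

/-- `R h_* ⋙ R g_* ≅ R (h ≫ g)_*`. -/
noncomputable def pushComp (Λ : Type (u + 1)) [CommRing Λ] {X Y Z : Scheme.{u}} (h : X ⟶ Y) (g : Y ⟶ Z) :
    EtDl.pushPlus Λ h ⋙ EtDl.pushPlus Λ g ≅ EtDl.pushPlus Λ (h ≫ g) :=
  have := PullPushPlus.isIso_compMapMod Λ h g
  (asIso (EtSix.compMapMod Λ h g)).symm

/-- `R(i f)_! = R i_* R f_!`. -/
noncomputable def rshriekComp (Λ : Type (u + 1)) [CommRing Λ] [IsProper i] {L : Scheme.{u}} {f : L ⟶ S}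
    (c : DEt.Compactification f) :
    EtDl.RshriekPlus Λ (compC i c) ≅ EtDl.RshriekPlus Λ c ⋙ EtDl.pushPlus Λ i :=
  Functor.isoWhiskerLeft (EtDl.extZeroPlus Λ c.j) (pushComp Λ c.fbar i).symm ≪≫
    (Functor.associator _ _ _).symm

/-- The inverse image of a constant sheaf, on `D^+`. -/
theorem nonempty_pullPlus_const (Λ : Type (u + 1)) [CommRing Λ] :
    Nonempty ((EtDl.pullPlus Λ i).obj ((DerivedCategory.Plus.singleFunctor (EtModW.Mod Λ T) 0).obj
      (EtModW.constMod Λ T Λ)) ≅ (DerivedCategory.Plus.singleFunctor (EtModW.Mod Λ S) 0).obj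
      (EtModW.constMod Λ S Λ)) := by
  obtain ⟨e⟩ := Sga4h.LFinClass.nonempty_pull_constMod (Λ := Λ) (M := Λ) i
  exact ⟨(HSg.singleExact (EtModW.pull Λ i)).app _ ≪≫
    (DerivedCategory.Plus.singleFunctor (EtModW.Mod Λ S) 0).mapIso e⟩

/-- `H^i(S, K) = H^i(T, R i_* K)`. -/
theorem hypVanish_of_push (m : ℕ) (K : DerivedCategory.Plus (EtModW.Mod (Lam.{u} m) S)) (n : ℕ)
    (h : HypVanish m ((EtDl.pushPlus (Lam.{u} m) i).obj K) n) : HypVanish m K n := by
  refine ⟨fun k hk => ?_⟩
  have h1 := h.out k hk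
  obtain ⟨e⟩ := nonempty_pullPlus_const i (Lam.{u} m)
  let e1 : (EtDl.pushPlus (Lam.{u} m) i).obj (K⟦k⟧) ≅ ((EtDl.pushPlus (Lam.{u} m) i).obj K)⟦k⟧ :=
    ((EtDl.pushPlus (Lam.{u} m) i).commShiftIso k).app K
  have h2 := (Iso.homCongr (Iso.refl ((DerivedCategory.Plus.singleFunctor (EtModW.Mod (Lam.{u} m) T) 0).obj
    (EtModW.constMod (Lam.{u} m) T (Lam.{u} m)))) e1).subsingleton_congr.2 h1
  have h3 := ((PullPushPlus.adj (Lam.{u} m) i).homEquiv _ _).subsingleton_congr.2 h2
  exact (Iso.homCongr e (Iso.refl (K⟦k⟧))).subsingleton_congr.1 h3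

/-- Isomorphic complexes. -/
theorem hypVanish_of_iso (m : ℕ) {K L : DerivedCategory.Plus (EtModW.Mod (Lam.{u} m) S)} (e : K ≅ L) (n : ℕ)
    (h : HypVanish m K n) : HypVanish m L n := by
  refine ⟨fun k hk => ?_⟩
  have h1 := h.out k hk
  exact (Iso.homCongr (Iso.refl _) ((shiftFunctor (DerivedCategory.Plus (EtModW.Mod (Lam.{u} m) S)) k).mapIso
    e)).subsingleton_congr.1 h1

/-- `Van` descends along proper morphisms. -/
theorem van_of [IsProper i] (m : ℕ) (h : Van T m) : Van S m := by
  intro L _ f _ c W G hG n hD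
  refine hypVanish_of_push i m _ n (hypVanish_of_iso m ((rshriekComp i (Lam.{u} m) c).app _) n ?_)
  exact h (f ≫ i) (compC i c) W G hG n hD

/-- `FinDepth` descends along morphisms locally of finite type. -/
theorem finDepth_of [LocallyOfFiniteType i] (m : ℕ) (h : FinDepth T m) : FinDepth S m := by
  intro L _ f _ G hG n hD
  exact h (f ≫ i) G hG n hD

end Transfer

section Algebra

/-- The punctured spectrum of a quotient. -/
theorem preimage_punctured {R B : Type u} [CommRing R] [IsLocalRing R] [CommRing B] [IsLocalRing B]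
    (φ : R →+* B) (hφ : Function.Surjective φ) :
    Spec.map (CommRingCat.ofHom φ) ⁻¹ᵁ (FEt.puncturedSpec R) = FEt.puncturedSpec B := by
  have hl : IsLocalHom φ := IsLocalHom.of_surjective φ hφ
  have h1 : PrimeSpectrum.comap φ (IsLocalRing.closedPoint B) = IsLocalRing.closedPoint R :=
    IsLocalRing.comap_closedPoint φ
  have h2 : Function.Injective (PrimeSpectrum.comap φ) := fun a b h => PrimeSpectrum.ext (Ideal.comap_injective_of_surjective φ hφ (congrArg PrimeSpectrum.asIdeal h))
  ext x
  change ¬ (PrimeSpectrum.comap φ x = IsLocalRing.closedPoint R) ↔ ¬ (x = IsLocalRing.closedPoint B)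
  exact not_congr ⟨fun h => h2 (h.trans h1.symm), fun h => (congrArg (PrimeSpectrum.comap φ) h).trans h1⟩

/-- Closed immersions of punctured spectra. -/
theorem exists_closedImmersion {R B : Type u} [CommRing R] [IsLocalRing R] [CommRing B] [IsLocalRing B]
    (φ : R →+* B) (hφ : Function.Surjective φ) :
    ∃ i : (FEt.puncturedSpec B : Scheme.{u}) ⟶ (FEt.puncturedSpec R : Scheme.{u}), IsClosedImmersion i := by
  have h1 : IsClosedImmersion (Spec.map (CommRingCat.ofHom φ)) := IsClosedImmersion.spec_of_surjective _ hφ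
  have h2 : IsClosedImmersion (Spec.map (CommRingCat.ofHom φ) ∣_ (FEt.puncturedSpec R)) :=
    IsZariskiLocalAtTarget.restrict h1 _
  exact ⟨(Scheme.isoOfEq _ (preimage_punctured φ hφ)).inv ≫ (Spec.map (CommRingCat.ofHom φ) ∣_ (FEt.puncturedSpec R)),
    inferInstance⟩

/-- Complete local rings in equal characteristic zero. -/
theorem exists_surjective (B : Type u) [CommRing B] [IsLocalRing B] [IsNoetherianRing B]
    [IsAdicComplete (IsLocalRing.maximalIdeal B) B] [Algebra ℚ B] :
    ∃ (n : ℕ) (f : MvPowerSeries (Fin n) (IsLocalRing.ResidueField B) →+* B), Function.Surjective f := by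
  have : Algebra.FormallySmooth ℚ (IsLocalRing.ResidueField B) :=
    CalgA.CharZeroFS.formallySmooth_of_charZero ℚ _
  obtain ⟨s, hs⟩ := CalgA.CharZeroFS.exists_section_of_formallySmooth ℚ B
  exact S0580.aux B (IsNoetherian.noetherian _) (IsLocalRing.ResidueField B) s.toRingHom (fun y => ⟨y, hs y⟩)

end Algebra

/-- NODE L3: from power series rings to complete rings. -/
theorem main : NodeL3.{u} := by
  intro m hm
  have key : ∀ P : Scheme.{u} → Prop,
      (∀ {S T : Scheme.{u}} (i : S ⟶ T), IsClosedImmersion i → P T → P S) →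
      OnSP.{u} P → OnComplete.{u} P := by
    intro P hP h B _ _ _ _ _ _
    obtain ⟨n, f, hf⟩ := exists_surjective B
    have : CharZero (IsLocalRing.ResidueField B) :=
      charZero_of_injective_ringHom (((IsLocalRing.residue B).comp (algebraMap ℚ B)).injective)
    obtain ⟨i, hi⟩ := exists_closedImmersion f hf
    exact hP i hi (h (IsLocalRing.ResidueField B) n)
  exact ⟨key _ (fun i hi h => van_of i m h), key _ (fun i hi h => finDepth_of i m h)⟩

end K482.EtL3
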