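import Groth.Agent.EtDepth.K552.PushDual
import Groth.Agent.Sga4h.BidIndLoc48
import Groth.Agent.Sga4h.BidIndD48
import Groth.Agent.Sga4h.Dbc323
import Groth.Agent.Sga4h.BidRed538Ext
import Groth.Agent.Etdl.H424.ModLift

/-!
# Biduality on open subschemes

* `hdMap`: cohomology sheaves of the image of a complex under an exact functor;
* `isDbc_ext`, `isDbc_res`: extension by zero and restriction preserve `D^b_c`;
* `bid_open`: biduality passes to open subschemes.
-/

set_option autoImplicit false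
universe u

open CategoryTheory CategoryTheory.Limits AlgebraicGeometry Opposite

attribute [local instance 5000] CategoryTheory.Abelian.toPreadditive
  CategoryTheory.Preadditive.preadditiveHasZeroMorphisms

namespace K482.BidOpen

attribute [local instance] HasDerivedCategory.standard
open scoped Groth.Agent.Sga4h.ModInst
open Groth.Agent Groth.Agent.Sga4h Groth.Agent.Sga4h.Refl Groth.Agent.Sga4h.ModRestr
  Groth.Agent.Sga4h.BidRed538Main Groth.Agent.Sga4h.BidIndLoc48 K552.OrthD DerivedCategory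

variable {Λ : Type (u + 1)} [CommRing Λ] {V X : Scheme.{u}}

/-- The cohomology sheaves of the image of a complex under an exact functor. -/
noncomputable def hdMap (Φ : EtModW.Mod Λ V ⥤ EtModW.Mod Λ X) [Φ.Additive] [PreservesFiniteLimits Φ]
    [PreservesFiniteColimits Φ] (K : CochainComplex (EtModW.Mod Λ V) ℤ) (q : ℤ) :
    EtModD.HD (Q.obj ((Φ.mapHomologicalComplex (ComplexShape.up ℤ)).obj K)) q ≅ Φ.obj (EtModD.HD (Q.obj K) q) :=
  hdIso _ q ≪≫ homologyMapIso Φ K q ≪≫ Φ.mapIso (hdIso K q).symm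

/-- The image of `D^b_c` under an exact functor preserving constructibility. -/
theorem isDbc_map (Φ : EtModW.Mod Λ V ⥤ EtModW.Mod Λ X) [Φ.Additive] [PreservesFiniteLimits Φ]
    [PreservesFiniteColimits Φ]
    (hΦ : ∀ F : EtModW.Mod Λ V, EtModW.IsConstructible Λ F → EtModW.IsConstructible Λ (Φ.obj F))
    (K : CochainComplex (EtModW.Mod Λ V) ℤ) (hK : EtModD.IsDbc (Q.obj K)) :
    EtModD.IsDbc (Q.obj ((Φ.mapHomologicalComplex (ComplexShape.up ℤ)).obj K)) := by
  obtain ⟨⟨a, b, ha, hb⟩, hc⟩ := hK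
  refine ⟨⟨a, b, ?_, ?_⟩, fun i => ?_⟩
  · rw [isGE_iff] at ha ⊢
    intro i hi
    exact (Φ.map_isZero (ha i hi)).of_iso (hdMap Φ K i)
  · rw [isLE_iff] at hb ⊢
    intro i hi
    exact (Φ.map_isZero (hb i hi)).of_iso (hdMap Φ K i)
  · exact Etcore.LCrit.isConstructible_of_iso (hdMap Φ K i).symm (hΦ _ (hc i))

variable (j : V ⟶ X)

/-- Restriction preserves `D^b_c`. -/
theorem isDbc_res [Etale j] (K : CochainComplex (EtModW.Mod Λ X) ℤ) (hK : EtModD.IsDbc (Q.obj K)) :
    EtModD.IsDbc (Q.obj ((resC j).obj K)) :=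
  isDbc_map (res Λ j) (fun F hF => Etcore.LCrit.isConstructible_of_iso
    ((Groth.Agent.Etdl.H424.ModLift.pullResIso Λ j).app F) (Etcore.LCrit.isConstructible_pull j F hF)) K hK

/-- Extension by zero preserves `D^b_c`. -/
theorem isDbc_ext [Finite Λ] [IsOpenImmersion j] [IsNoetherian X] [IsNoetherian V]
    (K : CochainComplex (EtModW.Mod Λ V) ℤ) (hK : EtModD.IsDbc (Q.obj K)) :
    EtModD.IsDbc (Q.obj ((extC j).obj K)) :=
  isDbc_map (ext Λ j) (fun F hF => BidRed538Ext.isConstructible_ext j F hF) K hK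

/-- The dual of the restriction. -/
theorem isDbc_D_res [Etale j] (K : CochainComplex (EtModW.Mod Λ X) ℤ)
    (hK : EtModD.IsDbc (Q.obj ((stdDual Λ X).D K))) :
    EtModD.IsDbc (Q.obj ((stdDual Λ V).D ((resC j).obj K))) := by
  obtain ⟨e⟩ := K552.OrthD.nonempty_res_D j K
  exact BidIndD48.isDbc_of_iso e (isDbc_res j _ hK)

/-- Restriction preserves reflexivity. -/
theorem refl_res [Etale j] (K : CochainComplex (EtModW.Mod Λ X) ℤ) (hK : (stdDual Λ X).Refl K) :
    (stdDual Λ V).Refl ((resC j).obj K) :=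
  BidEtRefl.refl_res j (stdDual Λ X) rfl (stdι Λ X) (quasiIso_stdι Λ X) (stdDual Λ V) rfl (stdι Λ V)
    (quasiIso_stdι Λ V) K hK

/-- **Biduality on open subschemes.** -/
theorem bid_open [Finite Λ] [IsOpenImmersion j] [IsNoetherian X] [IsNoetherian V] (hB : Bid (stdDual Λ X)) :
    Bid (stdDual Λ V) where
  dbc K hK := by
    have h1 := isDbc_D_res j _ (hB.dbc _ (isDbc_ext j K hK))
    obtain ⟨e⟩ := K552.OrthD.nonempty_D_iso (stdDual Λ V) (Q.mapIso (K552.PushDual.resExt j K))
    exact BidIndD48.isDbc_of_iso e.symm h1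
  refl K hK := by
    have h1 := refl_res j _ (hB.refl _ (isDbc_ext j K hK))
    exact (DualData.refl_iff_of_quasiIso (stdDual Λ V) (K552.PushDual.resExt j K).hom).2 h1

end K482.BidOpen
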