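import Groth.Agent.EtDl.K593.IndepPlus
import Groth.Agent.Sga5.FinShriek
import Groth.Agent.Etrest.Deg0
import Groth.Agent.Etrest.ModAbR
import Groth.Agent.Sga5.H861.Support
import Groth.Agent.Etdl.H860.HSg
import Groth.Agent.Sga2lef.H91.Devis
import Groth.Agent.Sga4h.BidFin

/-!
# `Rf_!` through an embedding into an open subscheme of a proper scheme

* `exchMod`: `k_! ⋙ b_* ≅ a_* ⋙ j_!` for `k ≫ b = a ≫ j`, `a`, `b` proper, `j`, `k` etale separated, sheaves of modules;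
* `exchPlus`: the same on `D^+` for `b` finite;
* `nonempty_RshriekPlus`: `Rf_! ≅ a_* ⋙ j_! ⋙ Rp_*` for `f = a ≫ j ≫ p`, `a` finite, `j` an open immersion, `p` proper;
* `pushPullMod`: `a_* ⋙ κA^* ≅ κ^* ⋙ w_*` for a cartesian square with `κ`, `κA` etale;
* `nonempty_push_openPush`: `a_* Rκ_* κ^* G ≅ RκA_* κA^* a_* G` for a closed immersion `a`, `κ` the base change of `κA`;
* `exists_opens`: an open subscheme of a closed subscheme is induced by an open subscheme;
* `subsingleton_const`: `Hom(Λ, K[r]) = 0` if `H^{r - p}(X, H^p(K)) = 0` for all `p`, `K` bounded below.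
-/

set_option autoImplicit false
universe w' v' u' u

open CategoryTheory CategoryTheory.Limits AlgebraicGeometry Opposite

attribute [local instance] HasDerivedCategory.standard

namespace K482.Shriek

open Groth.Agent Groth.Agent.Etdl.H424 K593.BCPlus K593.IndepPlus
open Groth.Agent.Etrest Groth.Agent.Etrest.ModAb Groth.Agent.Etrest.ModSmul Groth.Agent.Sga4h.ModRestr
  Groth.Agent.Sga4h.EtaleRes Groth.Agent.Etdl.H424.ModLift

attribute [local instance] jCont

variable (Λ : Type (u + 1)) [CommRing Λ]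

section exch

variable {L A Xb P : Scheme.{u}} (b : Xb ⟶ P) (j : A ⟶ P) (a : L ⟶ A) (k : L ⟶ Xb)
  [IsProper b] [IsProper a] [Etale j] [IsSeparated j] [Etale k] [IsSeparated k] (w : k ≫ b = a ≫ j)

/-- `k_! ⋙ b_* ≅ a_* ⋙ j_!` for abelian sheaves. -/
noncomputable def exchAb : EtShriek.extZero k ⋙ EtCoh.push b ≅ EtCoh.push a ⋙ EtShriek.extZero j :=
  Functor.isoWhiskerRight (EtExtStalk.extZeroIsoLowerShriek k) (EtCoh.push b) ≪≫
    Deg0.exchange b j a k w ≪≫ Functor.isoWhiskerLeft _ (EtExtStalk.extZeroIsoLowerShriek j).symm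

/-- `k_! ⋙ b_* ≅ a_* ⋙ j_!` for sheaves of modules. -/
noncomputable def exchMod : ext Λ k ⋙ EtModW.push Λ b ≅ EtModW.push Λ a ⋙ ext Λ j :=
  liftIso (fun r => smulNat Λ L r)
    (fun r F => congrArg (EtModW.push Λ b).map (ext_smulEnd k r F))
    (fun r F => ext_smulEnd j r ((EtModW.push Λ a).obj F))
    (Functor.associator _ _ _ ≪≫ Functor.isoWhiskerLeft (ext Λ k) (pushIso Λ b) ≪≫
      (Functor.associator _ _ _).symm ≪≫
      Functor.isoWhiskerRight (extAbIso Λ k) (EtCoh.push b) ≪≫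
      Functor.associator _ _ _ ≪≫ Functor.isoWhiskerLeft (ab Λ L) (exchAb b j a k w) ≪≫
      (Functor.associator _ _ _).symm ≪≫
      Functor.isoWhiskerRight (pushIso Λ a).symm (EtShriek.extZero j) ≪≫
      Functor.associator _ _ _ ≪≫ Functor.isoWhiskerLeft (EtModW.push Λ a) (extAbIso Λ j).symm ≪≫
      (Functor.associator _ _ _).symm)

/-- `k_! ⋙ Rb_* ≅ Ra_* ⋙ j_!` on `D^+`, `b` and `a` finite. -/
noncomputable def exchPlus [IsFinite b] : EtDl.extZeroPlus Λ k ⋙ EtDl.pushPlus Λ b ≅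
    EtDl.pushPlus Λ a ⋙ EtDl.extZeroPlus Λ j :=
  PlusAdj.compIso (ext Λ k) (EtModW.push Λ b) (EtModW.push Λ a ⋙ ext Λ j) (exchMod Λ b j a k w)
      (fun I _ q hq => by
        obtain ⟨q, rfl⟩ : ∃ r, q = r + 1 := ⟨q - 1, by omega⟩
        apply EtaleShriek.isZero_of_ab
        refine IsZero.of_iso ?_ ((rpushIso Λ b (q + 1)).app _)
        exact Groth.Agent.S0071.result b _ (q + 1) (by omega)) ≪≫
    (exactComp (EtModW.push Λ a) (ext Λ j) (EtModW.push Λ a ⋙ ext Λ j) (Iso.refl _)).symm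

end exch

section shriek

variable {L A P S : Scheme.{u}} {f : L ⟶ S}

/-- `Rf_! ≅ Ra_* ⋙ j_! ⋙ Rp_*` for `f = a ≫ j ≫ p`, `a` finite, `j` a quasi-compact open immersion, `p` proper, and any
compactification of `f`. -/
theorem nonempty_RshriekPlus (c : DEt.Compactification f) [QuasiCompact f] (a : L ⟶ A) [IsFinite a] (j : A ⟶ P)
    [IsOpenImmersion j] [QuasiCompact j] [CompactSpace P] [QuasiSeparatedSpace P] (p : P ⟶ S) [IsProper p]
    (w : a ≫ j ≫ p = f) (n : ℕ) (hn : 0 < n) (hΛ : (n : Λ) = 0) :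
    Nonempty (EtDl.RshriekPlus Λ c ≅ EtDl.pushPlus Λ a ⋙ EtDl.extZeroPlus Λ j ⋙ EtDl.pushPlus Λ p) := by
  obtain ⟨Xb, k, b, hk, hb, sq⟩ := Sga5.FinShriek.exists_compactification j a
  let c' : DEt.Compactification f :=
    { Xbar := Xb, j := k, fbar := b ≫ p, isOpenImmersion := hk, isProper := inferInstance,
      fac := by rw [← w, ← Category.assoc, sq.w, Category.assoc] }
  obtain ⟨e⟩ := nonempty_indep Λ c c' n hn hΛ
  exact ⟨e ≪≫ Functor.isoWhiskerLeft (EtDl.extZeroPlus Λ k) (pushComp Λ b p).symm ≪≫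
    (Functor.associator _ _ _).symm ≪≫ Functor.isoWhiskerRight (exchPlus Λ b j a k sq.w) (EtDl.pushPlus Λ p) ≪≫
    Functor.associator _ _ _⟩

end shriek

section sq

variable {W L A U : Scheme.{u}} (κ : W ⟶ L) (a : L ⟶ A) (w : W ⟶ U) (κA : U ⟶ A) [Etale κ] [Etale κA]
  (sq : IsPullback κ w a κA)

/-- `a_* ⋙ κA^* ≅ κ^* ⋙ w_*` for sheaves of modules. -/
noncomputable def pushPullMod : EtModW.push Λ a ⋙ EtModW.pull Λ κA ≅ EtModW.pull Λ κ ⋙ EtModW.push Λ w :=
  Functor.isoWhiskerLeft _ (pullResIso Λ κA) ≪≫ (restrPushIso Λ κA a κ w sq).symm ≪≫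
    Functor.isoWhiskerRight (pullResIso Λ κ).symm _

/-- `R⁺κ_* ⋙ R⁺a_* ≅ R⁺w_* ⋙ R⁺κA_*`. -/
noncomputable def pushSq (e : κ ≫ a = w ≫ κA) : EtDl.pushPlus Λ κ ⋙ EtDl.pushPlus Λ a ≅
    EtDl.pushPlus Λ w ⋙ EtDl.pushPlus Λ κA :=
  pushComp Λ κ a ≪≫ eqToIso (by rw [e]) ≪≫ (pushComp Λ w κA).symm

include sq in
/-- `R⁺a_* R⁺κ_* κ^* G ≅ R⁺κA_* κA^* a_* G`. -/
theorem nonempty_push_openPush [IsClosedImmersion w] (G : EtModW.Mod Λ L) :
    Nonempty ((EtDl.pushPlus Λ a).obj ((EtDl.pushPlus Λ κ).obj ((DerivedCategory.Plus.singleFunctor _ 0).obj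
      ((EtModW.pull Λ κ).obj G))) ≅ (EtDl.pushPlus Λ κA).obj ((DerivedCategory.Plus.singleFunctor _ 0).obj
      ((EtModW.pull Λ κA).obj ((EtModW.push Λ a).obj G)))) := by
  have : PreservesFiniteColimits (EtModW.push Λ w) := Sga5.H861.Support.preservesFiniteColimits_push w
  exact ⟨(pushSq Λ κ a w κA sq.w).app _ ≪≫ (EtDl.pushPlus Λ κA).mapIso
    ((Etdl.H860.HSg.singleExact (EtModW.push Λ w)).app _ ≪≫ (DerivedCategory.Plus.singleFunctor _ 0).mapIso
      ((pushPullMod Λ κ a w κA sq).symm.app G))⟩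

end sq

/-- An open subscheme of a closed subscheme is induced by an open subscheme with the smallest complement. -/
theorem exists_opens {L A : Scheme.{u}} (a : L ⟶ A) [IsClosedImmersion a] (W : L.Opens) :
    ∃ U : A.Opens, a ⁻¹ᵁ U = W ∧ (U : Set A)ᶜ = a '' ((W : Set L)ᶜ) := by
  let U : A.Opens := ⟨(a '' ((W : Set L)ᶜ))ᶜ, (a.isClosedEmbedding.isClosedMap _ W.isOpen.isClosed_compl).isOpen_compl⟩
  refine ⟨U, ?_, compl_compl _⟩
  ext x
  change a x ∉ a '' ((W : Set L)ᶜ) ↔ x ∈ W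
  rw [a.isClosedEmbedding.injective.mem_set_image]
  exact not_not

section devis

open DerivedCategory Pretriangulated

variable {C : Type u'} [Category.{v'} C] [Abelian C] [HasDerivedCategory.{w'} C]

/-- `Hom(Z, K) = 0` if `Z` is in degrees `≤ 0`, `K` is bounded below and `Hom(Z, H^i(K)[-i]) = 0` for all `i`. -/
theorem subsingleton_to_plus (Z K : DerivedCategory C) (a : ℤ) [K.IsGE a] [Z.IsLE 0]
    (h : ∀ i, Subsingleton (Z ⟶ (singleFunctor C i).obj ((homologyFunctor C i).obj K))) :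
    Subsingleton (Z ⟶ K) := by
  obtain ⟨T, hT, rfl, h1, h3, h4, h5⟩ := LoccohB.Devissage.exists_trunc K 0 1 (by omega)
  have hGE : T.obj₁.IsGE a := by
    rw [isGE_iff]
    intro i hi
    by_cases hi' : i ≤ 0
    · have := h4 i hi'
      exact (T.obj₂.isZero_of_isGE a i hi).of_iso (asIso ((homologyFunctor C i).map T.mor₁))
    · exact T.obj₁.isZero_of_isLE 0 i (by lia)
  have s1 : Subsingleton (Z ⟶ T.obj₁) := by
    refine Sga2lef.H91.Devis.subsingleton_to Z T.obj₁ a 0 fun i => ?_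
    by_cases hi' : i ≤ 0
    · have := h4 i hi'
      have := h i
      exact (Iso.homCongr (Iso.refl Z) ((singleFunctor C i).mapIso
        (asIso ((homologyFunctor C i).map T.mor₁)))).subsingleton
    · exact ⟨fun f g => ((singleFunctor C i).map_isZero (T.obj₁.isZero_of_isLE 0 i (by lia))).eq_of_tgt _ _⟩
  have s3 : Subsingleton (Z ⟶ T.obj₃) := by
    refine subsingleton_of_forall_eq 0 fun f => ?_
    have h1' : Z.IsLE 0 := inferInstance
    exact (TStructure.t : Triangulated.TStructure (DerivedCategory C)).zero_of_isLE_of_isGE f 0 1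
      (by omega) h1' h3
  refine subsingleton_of_forall_eq 0 fun f => ?_
  obtain ⟨y, hy⟩ := Triangle.coyoneda_exact₂ T hT f (s3.elim _ _)
  rw [hy, s1.elim y 0, zero_comp]

end devis

section const

open DerivedCategory

variable {X : Scheme.{u}}

/-- `Hom(Λ, K[r]) = 0` if `H^{r - p}(X, H^p(K)) = 0` for all `p`, `K` bounded below. -/
theorem subsingleton_const (K : DerivedCategory (EtModW.Mod Λ X)) (a : ℤ) [K.IsGE a] (r : ℤ)
    (h : ∀ (p : ℤ) (q : ℕ), (q : ℤ) = r - p →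
      Subsingleton (EtCoh.H X ((ab Λ X).obj ((homologyFunctor _ p).obj K)) q)) :
    Subsingleton ((singleFunctor _ 0).obj (EtModW.constMod Λ X Λ) ⟶ K⟦r⟧) := by
  have : (K⟦r⟧).IsGE (a - r) := TStructure.t.isGE_shift K a r (a - r) (by omega)
  refine subsingleton_to_plus _ _ (a - r) fun i => ?_
  have e : (homologyFunctor _ i).obj (K⟦r⟧) ≅ (homologyFunctor _ (i + r)).obj K :=
    ((homologyFunctor (EtModW.Mod Λ X) 0).shiftIso r i (i + r) (by omega)).app K
  have h1 : Subsingleton ((singleFunctor (EtModW.Mod Λ X) 0).obj (EtModW.constMod Λ X Λ) ⟶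
      (singleFunctor _ i).obj ((homologyFunctor _ (i + r)).obj K)) := by
    refine Sga2lef.H91.Devis.subsingleton_single (EtModW.constMod Λ X Λ) ((homologyFunctor _ (i + r)).obj K) 0 i
      (fun n hn => ?_)
    have := h (i + r) n (by omega)
    exact (Sga4h.BidFin.extConstEquiv Λ ((homologyFunctor (EtModW.Mod Λ X) (i + r)).obj K) n).subsingleton
  exact (Iso.homCongr (Iso.refl _) ((singleFunctor (EtModW.Mod Λ X) i).mapIso e)).subsingleton

end const

end K482.Shriek
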