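import Groth.Agent.EtDepth.K482.DualSide
import Groth.Agent.EtDepth.K482.Shriek
import Groth.Agent.EtDepth.K813.Emb
import Groth.Agent.EtDepth.K973.Stmt
import Groth.Agent.Sga4h.GcGen
import Groth.Agent.S2652
import Groth.Agent.Etdl.H428.PowSer

/-!
# Vanishing of the cohomology of `κ_! D(κ^* F)` on the affine space over a power series ring

`subsingleton_dual`: `Hom(Λ, (κ_! D(κ^* i_* G))[r]) = 0` for `r ≥ 2 (M + N) - n`, from Artin vanishing and the bound of the
supports of the cohomology sheaves of the dual.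
-/

set_option autoImplicit false
universe u

open CategoryTheory CategoryTheory.Limits AlgebraicGeometry Opposite

attribute [local instance 5000] CategoryTheory.Abelian.toPreadditive
  CategoryTheory.Preadditive.preadditiveHasZeroMorphisms

namespace K482.DualBd

attribute [local instance] HasDerivedCategory.standard
open scoped Groth.Agent.Sga4h.ModInst
open Groth.Agent Groth.Agent.Sga4h Groth.Agent.Sga4h.Refl Groth.Agent.Sga4h.ModRestr
  Groth.Agent.Sga4h.BidRed538Main Groth.Agent.Sga4h.BidIndLoc48 K552.OrthD DerivedCategory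
  Groth.Agent.Sga4h.EtPts K973.Stmt K813.Emb Groth.Agent.Etdl.H434.Defs Groth.Agent.CycB.RelDim

/-- The bound on the supports. -/
structure SB (Λ : Type (u + 1)) [CommRing Λ] (X : Scheme.{u}) : Prop where
  out : ∀ (F : EtModW.Mod Λ X) (_ : EtModW.IsConstructible Λ F) (v : X) (q e : ℕ)
    (_ : ringKrullDim (X.presheaf.stalk v) = e)
    (_ : EtDepth.DepthAtGE X ((EtModD.forgetToAb Λ X).obj F) v q) (p : ℤ) (_ : 2 * (e : ℤ) < p + q),
    IsZero ((stk Λ v).obj (((stdDual Λ X).D ((CochainComplex.singleFunctor _ 0).obj F)).homology p))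

section inst

variable (M : ℕ) (K : Type u) [Field K]

theorem isNoetherian_SP : IsNoetherian (SP M K) := by
  have : IsNoetherianRing (MvPowerSeries (Fin M) K) := inferInstance
  infer_instance

theorem isNoetherian_AN (N : ℕ) : IsNoetherian (AN M N K) := by
  have := isNoetherian_SP M K
  exact Groth.Agent.Sga4h.GcGen.isNoetherian_of_ft (𝔸(ULift.{u} (Fin N); SP M K) ↘ SP M K)

theorem isExcellent : EGA4.IsExcellent (MvPowerSeries (Fin M) K) := by
  have := CalgB.PowField.isAdicComplete K M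
  exact Groth.Agent.S2652.result _

end inst

variable {Λ : Type (u + 1)} [CommRing Λ] [Finite Λ] {M : ℕ} {K : Type u} [Field K] {L : Scheme.{u}}
  {f : L ⟶ (FEt.puncturedSpec (MvPowerSeries (Fin M) K) : Scheme.{u})}
  {N : ℕ} (i : L ⟶ AN M N K) [IsClosedImmersion i]
  (w : i ≫ anStr M N K = f ≫ (FEt.puncturedSpec (MvPowerSeries (Fin M) K)).ι)

theorem isConstructible_push (G : EtModW.Mod Λ L) (hG : EtModW.IsConstructible Λ G) :
    EtModW.IsConstructible Λ ((EtModW.push Λ i).obj G) := by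
  have := isNoetherian_AN M K N
  have : LocallyOfFinitePresentation i := LocallyOfFinitePresentation.iff_locallyOfFiniteType.2 inferInstance
  exact Sga2lef.H91.ModPush.isConstructible_push i G hG

variable [IsAffine L] [LocallyOfFiniteType f]

include w in
omit [IsAffine L] [LocallyOfFiniteType f] in
/-- The bound of the dimensions on the support of `H^p(D (i_* G))`. -/
theorem exists_bound (hS : SB Λ (AN M N K)) (U : (AN M N K).Opens)
    (G : EtModW.Mod Λ L) (hG : EtModW.IsConstructible Λ G) (n : ℕ)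
    (hd : DepthOn ((EtModD.forgetToAb Λ L).obj G) (i ⁻¹ᵁ U) n) (p : ℤ) (v : AN M N K) (hv : v ∈ U)
    (hne : ¬ IsZero ((stk Λ v).obj (((stdDual Λ (AN M N K)).D
      ((CochainComplex.singleFunctor _ 0).obj ((EtModW.push Λ i).obj G))).homology p))) :
    ∃ c r : ℕ, rtd (anStr M N K) v = r ∧
      ringKrullDim (MvPowerSeries (Fin M) K ⧸ (anStr M N K v).asIdeal) = c ∧
      (c : ℤ) + r + 1 ≤ 2 * ((M : ℤ) + N) - n - p := by
  have hF := isConstructible_push i G hG
  have hbd : ∀ q e : ℕ, ringKrullDim ((AN M N K).presheaf.stalk v) = e →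
      EtDepth.DepthAtGE (AN M N K) ((EtModD.forgetToAb Λ (AN M N K)).obj
        ((EtModW.push Λ i).obj G)) v q → p + q ≤ 2 * (e : ℤ) := by
    intro q e he hq
    by_contra hlt
    exact hne (hS.out _ hF v q e he hq p (by omega))
  obtain ⟨e, c, r, h1, h2, h3, h4⟩ := K813.Dims.stalk_formula M N (CalgB.PowField.ringKrullDim_eq K M) v
  refine ⟨c, r, h2, h3, ?_⟩
  have hvi : v ∈ Set.range i := by
    by_contra hvi
    have := hbd ((2 * (e : ℤ) - p).toNat + 1) e h1
      (K813.DepthPull.depthAtGE_push_of_notMem i ((EtModD.forgetToAb Λ L).obj G) v hvi _)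
    push_cast at this
    omega
  obtain ⟨x, rfl⟩ := hvi
  obtain ⟨d, e', h5, h6, h7⟩ := exists_dims i w x
  have he : e' = e := by
    have : ((e' : ℕ) : WithBot ℕ∞) = (e : ℕ) := by rw [← h6, ← h1]
    exact_mod_cast this
  have h8 := hbd (n - d) e h1 ((K813.DepthPull.depthAtGE_push_iff i ((EtModD.forgetToAb Λ L).obj G) x (n - d)).2
    (hd.out x hv d h5))
  subst he
  have h9 : (n : ℤ) - d ≤ ((n - d : ℕ) : ℤ) := by omega
  omega

include w in
/-- **Vanishing for the dual.** -/
theorem subsingleton_dual [IsSepClosed K] [CharZero K] {m : ℕ} (hm : 0 < m) (hΛ : (m : Λ) = 0)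
    (hArt : NodeArt.{u}) (hS : SB Λ (AN M N K)) (U : (AN M N K).Opens)
    (G : EtModW.Mod Λ L) (hG : EtModW.IsConstructible Λ G) (n : ℕ)
    (hd : DepthOn ((EtModD.forgetToAb Λ L).obj G) (i ⁻¹ᵁ U) n)
    (hDbc : EtModD.IsDbc (Q.obj ((extC U.ι).obj ((stdDual Λ U.toScheme).D
      ((CochainComplex.singleFunctor _ 0).obj ((EtModW.pull Λ U.ι).obj ((EtModW.push Λ i).obj G)))))))
    (r : ℤ) (hr : 2 * ((M : ℤ) + N) - n ≤ r) :
    Subsingleton ((singleFunctor _ 0).obj (EtModW.constMod Λ (AN M N K) Λ) ⟶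
      (Q.obj ((extC U.ι).obj ((stdDual Λ U.toScheme).D
      ((CochainComplex.singleFunctor _ 0).obj ((EtModW.pull Λ U.ι).obj ((EtModW.push Λ i).obj G))))))⟦r⟧) := by
  obtain ⟨⟨a, b, ha, hb⟩, hc⟩ := hDbc
  refine Shriek.subsingleton_const Λ _ a r fun p q hq => ?_
  have hC := hc p
  have key : ∀ v ∈ EtPBC.supp ((Groth.Agent.Etrest.ModAb.ab Λ (AN M N K)).obj
      ((homologyFunctor _ p).obj (Q.obj ((extC U.ι).obj ((stdDual Λ U.toScheme).D
      ((CochainComplex.singleFunctor _ 0).obj ((EtModW.pull Λ U.ι).obj ((EtModW.push Λ i).obj G)))))))),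
      ∃ c r : ℕ, rtd (anStr M N K) v = r ∧
        ringKrullDim (MvPowerSeries (Fin M) K ⧸ (anStr M N K v).asIdeal) = c ∧
        (c : ℤ) + r + 1 ≤ 2 * ((M : ℤ) + N) - n - p := by
    intro v hv
    obtain ⟨h1, h2⟩ := DualSide.mem_of_mem_supp U.ι _ p v hv
    rw [Scheme.Opens.range_ι] at h1
    exact exists_bound i w hS U G hG n hd p v h1 h2
  change EtModW.IsConstructible Λ ((homologyFunctor _ p).obj (Q.obj ((extC U.ι).obj ((stdDual Λ U.toScheme).D
      ((CochainComplex.singleFunctor _ 0).obj ((EtModW.pull Λ U.ι).obj ((EtModW.push Λ i).obj G))))))) at hC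
  generalize (homologyFunctor _ p).obj (Q.obj ((extC U.ι).obj ((stdDual Λ U.toScheme).D
      ((CochainComplex.singleFunctor _ 0).obj ((EtModW.pull Λ U.ι).obj ((EtModW.push Λ i).obj G)))))) = C at hC key ⊢
  by_cases hneg : 2 * ((M : ℤ) + N) - n - 1 - p < 0
  · have h1 : IsZero C := by
      refine Sga5.H840.SkySep.isZero_of_stk fun v => ?_
      by_contra hne
      rw [← Groth.Agent.Sga2lef.H253.StkSupp.mem_supp_ab_iff] at hne
      obtain ⟨c, r, -, -, h⟩ := key v hne
      omega
    have h2 : IsZero ((Groth.Agent.Etrest.ModAb.ab Λ (AN M N K)).obj C) :=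
      (Groth.Agent.Etrest.ModAb.ab Λ (AN M N K)).map_isZero h1
    exact Sheaf.subsingleton_H_of_isZero h2 q
  · have hexc := isExcellent M K
    have h1 : IsSepClosed (IsLocalRing.ResidueField (MvPowerSeries (Fin M) K)) :=
      Etdl.H428.PowSer.isSepClosed_residueField K M
    have h2 := Etdl.H428.PowSer.henselian K M
    refine hArt (MvPowerSeries (Fin M) K) hexc N m hm ((Groth.Agent.Etrest.ModAb.ab Λ _).obj C)
      (Sga4h.BidFin.killedBy_ab hΛ C) (Sga4h.BidFin.isConstructible_ab hC)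
      (2 * ((M : ℤ) + N) - n - 1 - p).toNat (fun v hv a b hva hvb => ?_) q (by omega)
    obtain ⟨c, r, h3, h4, h5⟩ := key v hv
    have h6 : a = c := by
      have : ((a : ℕ) : WithBot ℕ∞) = (c : ℕ) := by rw [← h4, ← hva]
      exact_mod_cast this
    have h7 : b = r := by
      have : ((b : ℕ) : Cardinal.{u}) = (r : ℕ) := by rw [← h3, ← hvb]; rfl
      exact_mod_cast this
    omega

end K482.DualBd
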