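import Groth.Agent.EtDepth.K482.BidOpen
import Groth.Agent.Sga2lef.H253.StkSupp
import Groth.Agent.Sga5.H840.SkySep
import Groth.Agent.Sga4h.X144Shr
import Groth.Agent.Etcore.ShriekUnique

/-!
# The cohomology sheaves of `κ_! D(κ^* F)`

* `nonempty_hd`: `H^p(κ_! D(κ^* F)) ≅ κ_! κ^* H^p(D F)`;
* `mem_of_mem_supp`: the support of `H^p(κ_! D(κ^* F))` is contained in the image of `κ` and in the support of `H^p(D F)`.
-/

set_option autoImplicit false
universe u

open CategoryTheory CategoryTheory.Limits AlgebraicGeometry Opposite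

attribute [local instance 5000] CategoryTheory.Abelian.toPreadditive
  CategoryTheory.Preadditive.preadditiveHasZeroMorphisms

namespace K482.DualSide

attribute [local instance] HasDerivedCategory.standard
open scoped Groth.Agent.Sga4h.ModInst
open Groth.Agent Groth.Agent.Sga4h Groth.Agent.Sga4h.Refl Groth.Agent.Sga4h.ModRestr
  Groth.Agent.Sga4h.BidRed538Main Groth.Agent.Sga4h.BidIndLoc48 K552.OrthD DerivedCategory
  Groth.Agent.Sga4h.EtPts Groth.Agent.Sga4h.EtaleRes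

attribute [local instance] jCont

variable {Λ : Type (u + 1)} [CommRing Λ] {U A : Scheme.{u}} (κ : U ⟶ A) [IsOpenImmersion κ]

/-- The support of an extension by zero. -/
theorem mem_range_of_mem_supp (G : EtModW.Mod Λ U) (v : A)
    (hv : v ∈ EtPBC.supp ((Groth.Agent.Etrest.ModAb.ab Λ A).obj ((ext Λ κ).obj G))) : v ∈ Set.range κ := by
  obtain ⟨Ω, _, _, ξ, hξ, hne⟩ := hv
  by_contra h
  refine hne ?_
  have h1 : ξ default ∈ Set.range ξ := ⟨_, rfl⟩
  rw [hξ] at h1
  have h2 : ξ default ∉ Set.range κ := by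
    rw [Set.mem_singleton_iff.1 h1]
    exact h
  exact (Groth.Agent.Etcore.ShriekUnique.isZero_stalk_extZero' κ ξ h2 ((Groth.Agent.Etrest.ModAb.ab Λ U).obj G)).of_iso
    ((EtCoh.stalk ξ).mapIso ((Groth.Agent.Etdl.H424.ModLift.extAbIso Λ κ).app G))

/-- The support of `κ_! κ^* C`. -/
theorem mem_supp_ext_res (C : EtModW.Mod Λ A) (v : A)
    (hv : v ∈ EtPBC.supp ((Groth.Agent.Etrest.ModAb.ab Λ A).obj ((ext Λ κ).obj ((res Λ κ).obj C)))) :
    v ∈ Set.range κ ∧ ¬ IsZero ((stk Λ v).obj C) := by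
  refine ⟨mem_range_of_mem_supp κ _ v hv, fun h => ?_⟩
  rw [Groth.Agent.Sga2lef.H253.StkSupp.mem_supp_ab_iff] at hv
  have := X144Shr.mono_counit Λ κ C
  exact hv (IsZero.of_mono ((stk Λ v).map ((extResAdj Λ κ).counit.app C)) h)

/-- The cohomology sheaves of the image under an exact functor (the functor on complexes in any presentation). -/
theorem nonempty_hdMap {V X : Scheme.{u}} (Φ : EtModW.Mod Λ V ⥤ EtModW.Mod Λ X) [Φ.Additive] [PreservesFiniteLimits Φ]
    [PreservesFiniteColimits Φ] (Φ' : CochainComplex (EtModW.Mod Λ V) ℤ ⥤ CochainComplex (EtModW.Mod Λ X) ℤ)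
    (h : Φ.mapHomologicalComplex (ComplexShape.up ℤ) = Φ') (K : CochainComplex (EtModW.Mod Λ V) ℤ) (q : ℤ) :
    Nonempty ((homologyFunctor _ q).obj (Q.obj (Φ'.obj K)) ≅ Φ.obj ((homologyFunctor _ q).obj (Q.obj K))) := by
  subst h
  exact ⟨BidOpen.hdMap Φ K q⟩

/-- The image of a single complex (the functor on complexes in any presentation). -/
theorem nonempty_mapSingle {C C' : Type*} [Category* C] [Abelian C] [Category* C'] [Abelian C'] (R : C ⥤ C')
    [R.Additive] (R' : CochainComplex C ℤ ⥤ CochainComplex C' ℤ)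
    (hR' : R.mapHomologicalComplex (ComplexShape.up ℤ) = R') (n : ℤ) (X : C) (Y : C') (e : Nonempty (R.obj X ≅ Y)) :
    Nonempty (R'.obj ((CochainComplex.singleFunctor C n).obj X) ≅ (CochainComplex.singleFunctor C' n).obj Y) := by
  subst hR'
  obtain ⟨e⟩ := e
  exact ⟨(HomologicalComplex.singleMapHomologicalComplex R (ComplexShape.up ℤ) n).app X ≪≫
    (CochainComplex.singleFunctor C' n).mapIso e⟩

/-- The cohomology sheaves of `κ_! D L` for `L ≅ κ^* K`. -/
theorem nonempty_hd_gen (K : CochainComplex (EtModW.Mod Λ A) ℤ) (L : CochainComplex (EtModW.Mod Λ U) ℤ) (p : ℤ)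
    (e : Nonempty ((resC κ).obj K ≅ L)) :
    Nonempty ((homologyFunctor _ p).obj (Q.obj ((extC κ).obj ((stdDual Λ U).D L))) ≅
      (ext Λ κ).obj ((res Λ κ).obj (((stdDual Λ A).D K).homology p))) := by
  obtain ⟨e⟩ := e
  obtain ⟨e1⟩ := K552.OrthD.nonempty_res_D κ K
  obtain ⟨e2⟩ := K552.OrthD.nonempty_D_iso (stdDual Λ U) (Q.mapIso e)
  obtain ⟨i1⟩ := nonempty_hdMap (ext Λ κ) (extC κ) rfl ((stdDual Λ U).D L) p
  obtain ⟨i2⟩ := nonempty_hdMap (res Λ κ) (resC κ) rfl ((stdDual Λ A).D K) p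
  exact ⟨i1 ≪≫ (ext Λ κ).mapIso ((homologyFunctor _ p).mapIso (e1 ≪≫ e2).symm ≪≫ i2 ≪≫
    (res Λ κ).mapIso ((homologyFunctorFactors (EtModW.Mod Λ A) p).app _))⟩

/-- **The cohomology sheaves of `κ_! D(κ^* F)`.** -/
theorem nonempty_hd (F : EtModW.Mod Λ A) (p : ℤ) :
    Nonempty ((homologyFunctor _ p).obj (Q.obj ((extC κ).obj ((stdDual Λ U).D
      ((CochainComplex.singleFunctor _ 0).obj ((EtModW.pull Λ κ).obj F))))) ≅
      (ext Λ κ).obj ((res Λ κ).obj (((stdDual Λ A).D ((CochainComplex.singleFunctor _ 0).obj F)).homology p))) := by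
  refine nonempty_hd_gen κ _ _ p ?_
  exact nonempty_mapSingle (res Λ κ) (resC κ) rfl 0 F _
    ⟨(Groth.Agent.Etdl.H424.ModLift.pullResIso Λ κ).symm.app F⟩

/-- The support of the cohomology sheaves of `κ_! D(κ^* F)`. -/
theorem mem_of_mem_supp (F : EtModW.Mod Λ A) (p : ℤ) (v : A)
    (hv : v ∈ EtPBC.supp ((Groth.Agent.Etrest.ModAb.ab Λ A).obj ((homologyFunctor _ p).obj (Q.obj ((extC κ).obj
      ((stdDual Λ U).D ((CochainComplex.singleFunctor _ 0).obj ((EtModW.pull Λ κ).obj F)))))))) :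
    v ∈ Set.range κ ∧ ¬ IsZero ((stk Λ v).obj
      (((stdDual Λ A).D ((CochainComplex.singleFunctor _ 0).obj F)).homology p)) := by
  obtain ⟨e⟩ := nonempty_hd κ F p
  refine mem_supp_ext_res κ _ v ?_
  rw [Groth.Agent.Sga2lef.H253.StkSupp.mem_supp_ab_iff] at hv ⊢
  exact fun h => hv (h.of_iso ((stk Λ v).mapIso e))

end K482.DualSide
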