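import Groth.Agent.Etdl.H860.Eps
import Groth.Agent.PerfA.ExactD
import Groth.Agent.LoccohB.Devissage

/-!
# Objects of `D^+`: representing complexes, homology of exact functors, zero objects
-/

set_option autoImplicit false
universe w w' v v' u u'

open CategoryTheory CategoryTheory.Limits DerivedCategory

namespace K482.PlusHom

open Groth.Agent Groth.Agent.Etdl.H860

section one

variable {A : Type u} [Category.{v} A] [Abelian A] [HasDerivedCategory.{w} A]

/-- An object of `D^+` comes from a bounded below complex. -/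
theorem exists_complex (M : Plus A) : ∃ E : CochainComplex.Plus A, Nonempty (Plus.Q.obj E ≅ M) := by
  obtain ⟨K, ⟨e⟩⟩ := Functor.EssSurj.mem_essImage (F := Plus.Qh (C := A)) M
  obtain ⟨E, ⟨e'⟩⟩ := Functor.EssSurj.mem_essImage (F := HomotopyCategory.Plus.quotient A) K
  exact ⟨E, ⟨Plus.Qh.mapIso e' ≪≫ e⟩⟩

/-- `ι (Q E) ≅ Q E`. -/
noncomputable def ιQ (E : CochainComplex.Plus A) : Plus.ι.obj (Plus.Q.obj E) ≅ Q.obj E.obj :=
  (quotientCompQhIso A).app E.obj

/-- The complex of an object of `D^+`. -/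
theorem exists_complex' (M : Plus A) : ∃ E : CochainComplex.Plus A, Nonempty (Q.obj E.obj ≅ Plus.ι.obj M) := by
  obtain ⟨E, ⟨e⟩⟩ := exists_complex M
  exact ⟨E, ⟨(ιQ E).symm ≪≫ Plus.ι.mapIso e⟩⟩

/-- An object of `D^+` without homology is zero. -/
theorem isZero_plus (M : Plus A) (h : ∀ p : ℤ, IsZero ((homologyFunctor A p).obj (Plus.ι.obj M))) : IsZero M := by
  have h1 : (Plus.ι.obj M).IsGE 1 := (isGE_iff _ _).2 fun i _ => h i
  have h2 : (Plus.ι.obj M).IsLE 0 := (isLE_iff _ _).2 fun i _ => h i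
  have h3 : IsZero (Plus.ι.obj M) := LoccohB.Devissage.isZero_of_isGE_of_isLE _ 1 0 (by omega)
  rw [IsZero.iff_id_eq_zero]
  apply Plus.ι.map_injective
  rw [CategoryTheory.Functor.map_id, CategoryTheory.Functor.map_zero]
  exact (IsZero.iff_id_eq_zero _).1 h3

end one

variable {A : Type u} [Category.{v} A] [Abelian A] [HasDerivedCategory.{w} A] [EnoughInjectives A]
  {B : Type u'} [Category.{v'} B] [Abelian B] [HasDerivedCategory.{w'} B]
  (j : A ⥤ B) [j.Additive] [PreservesFiniteLimits j] [PreservesFiniteColimits j]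

/-- The derived functor of an exact functor, on complexes. -/
theorem nonempty_exact (E : CochainComplex.Plus A) (M : Plus A) (e : Q.obj E.obj ≅ Plus.ι.obj M) :
    Nonempty (Plus.ι.obj (j.rightDerivedFunctorPlus.obj M) ≅
      Q.obj ((j.mapHomologicalComplex (.up ℤ)).obj E.obj)) := by
  let e1 : Plus.Q.obj E ≅ M := Plus.ι.preimageIso (ιQ E ≪≫ e)
  exact ⟨Plus.ι.mapIso (j.rightDerivedFunctorPlus.mapIso e1.symm ≪≫ (Eps.exactIso j).app E) ≪≫
    ιQ (j.mapCochainComplexPlus.obj E)⟩

/-- Homology of the derived functor of an exact functor. -/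
theorem nonempty_homology_exact (M : Plus A) (p : ℤ) :
    Nonempty ((homologyFunctor B p).obj (Plus.ι.obj (j.rightDerivedFunctorPlus.obj M)) ≅
      j.obj ((homologyFunctor A p).obj (Plus.ι.obj M))) := by
  obtain ⟨E, ⟨e⟩⟩ := exists_complex' M
  obtain ⟨e1⟩ := nonempty_exact j E M e
  exact ⟨(homologyFunctor B p).mapIso e1 ≪≫ (homologyFunctorFactors B p).app _ ≪≫
    (PerfA.ExactD.mapCxHomology j (.up ℤ) p).app E.obj ≪≫
    j.mapIso (((homologyFunctorFactors A p).app E.obj).symm ≪≫ (homologyFunctor A p).mapIso e)⟩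

/-- The derived functor of a functor isomorphic to the identity. -/
theorem nonempty_id (k : A ⥤ A) [k.Additive] [PreservesFiniteLimits k] [PreservesFiniteColimits k] (e : k ≅ 𝟭 A)
    (M : Plus A) : Nonempty (k.rightDerivedFunctorPlus.obj M ≅ M) := by
  obtain ⟨E, ⟨e0⟩⟩ := exists_complex' M
  obtain ⟨e1⟩ := nonempty_exact k E M e0
  exact ⟨Plus.ι.preimageIso (e1 ≪≫ Q.mapIso ((NatIso.mapHomologicalComplex e (.up ℤ)).app E.obj ≪≫
    (Functor.mapHomologicalComplexIdIso A (.up ℤ)).app E.obj) ≪≫ e0)⟩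

end K482.PlusHom
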