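import Groth.Agent.EtDepth.K482.BidOpen
import Groth.Agent.EtDepth.K482.PlusHom
import Groth.Agent.EtDepth.K973.PushAbs
import Groth.Agent.EtDual.K336.BidStep
import Groth.Agent.Sga4h.LFinClass

/-!
# Duality for `j_! Rκ_* κ^* F`

`κ : U ⟶ A`, `j : A ⟶ P` open immersions, `F` constructible on `A`, biduality on `P`:
* `nonempty_hom_ext`: `Hom(j_! M, Λ[r]) ≃ Hom(M, Λ[r])`;
* `subsingleton_Z`: `Hom(Z, (j_! Rκ_* κ^* F)[r]) = 0` if `Hom(Λ, (κ_! D (κ^* F))[e + c - r]) = 0`, by the duality `(t1)`.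
-/

set_option autoImplicit false
universe u

open CategoryTheory CategoryTheory.Limits AlgebraicGeometry Opposite

attribute [local instance 5000] CategoryTheory.Abelian.toPreadditive
  CategoryTheory.Preadditive.preadditiveHasZeroMorphisms

namespace K482.PSide

attribute [local instance] HasDerivedCategory.standard
open scoped Groth.Agent.Sga4h.ModInst
open Groth.Agent Groth.Agent.Sga4h Groth.Agent.Sga4h.Refl Groth.Agent.Sga4h.ModRestr
  Groth.Agent.Sga4h.BidRed538Main Groth.Agent.Sga4h.BidIndLoc48 K552.OrthD DerivedCategory K973.PushAbs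
  Groth.Agent.EtDual.K336.BidStep

/-- Transport along an equality. -/
theorem tr {α : Sort*} {a b : α} (P : α → Prop) (h : P a) (e : a = b) : P b := e ▸ h

section Abs

universe w

variable {C : Type*} [Category* C] [Abelian C] [HasDerivedCategory.{w} C]

/-- The single complex in `D^+`. -/
theorem nonempty_single_Q (X : C) (n : ℤ) : Nonempty (Plus.ι.obj ((Plus.singleFunctor C n).obj X) ≅
    Q.obj ((CochainComplex.singleFunctor C n).obj X)) :=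
  ⟨(singleFunctorIsoCompQ C n).app X⟩

variable {T : C ⥤ C ⥤ C} [T.Additive] [∀ X, (T.obj X).Additive]
    [∀ (K₁ K₂ : CochainComplex C ℤ), CochainComplex.HasMapBifunctor K₁ K₂ T]
    [∀ E : CochainComplex C ℤ, (T.map₂CochainComplex.flip.obj E).IsLeftAdjoint]

/-- Biduality in the derived category. -/
theorem nonempty_Q_ev (A : DualData T) (K : CochainComplex C ℤ) (h : A.Refl K) :
    Nonempty (Q.obj K ≅ Q.obj (A.D (A.D K))) :=
  ⟨@asIso _ _ _ _ (Q.map (A.ev K)) ((isIso_Q_map_iff_quasiIso _ _).2 h.qis)⟩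

end Abs

variable {Λ : Type (u + 1)} [CommRing Λ] {U A P : Scheme.{u}}

/-- `Hom(j_! M, Λ[r]) ≃ Hom(M, Λ[r])`. -/
theorem nonempty_hom_ext (j : A ⟶ P) [Etale j] (M : Plus (EtModW.Mod Λ A)) (r : ℤ) :
    Nonempty ((Plus.ι.obj ((ext Λ j).rightDerivedFunctorPlus.obj M) ⟶
      ((singleFunctor _ 0).obj (EtModW.constMod Λ P Λ))⟦r⟧) ≃
      (Plus.ι.obj M ⟶ ((singleFunctor _ 0).obj (EtModW.constMod Λ A Λ))⟦r⟧)) := by
  let S := (Plus.singleFunctor _ 0).obj (EtModW.constMod Λ P Λ)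
  let S' := (Plus.singleFunctor _ 0).obj (EtModW.constMod Λ A Λ)
  obtain ⟨ec⟩ := LFinClass.nonempty_pull_constMod (Λ := Λ) (M := Λ) j
  have e1 := homιShift ((ext Λ j).rightDerivedFunctorPlus.obj M) S r
  have e2 := (Groth.Agent.Etdl.H424.PlusAdj.dadj (extResAdj Λ j)).homEquiv M (S⟦r⟧)
  let t : (res Λ j).rightDerivedFunctorPlus.obj (S⟦r⟧) ≅ S'⟦r⟧ := rdShift (res Λ j) S r ≪≫
    (shiftFunctor _ r).mapIso (rdSingle (res Λ j) (EtModW.constMod Λ P Λ) ≪≫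
      (Plus.singleFunctor _ 0).mapIso ((Groth.Agent.Etdl.H424.ModLift.pullResIso Λ j).symm.app _ ≪≫ ec))
  have e3 : (M ⟶ (res Λ j).rightDerivedFunctorPlus.obj (S⟦r⟧)) ≃ (M ⟶ S'⟦r⟧) := Iso.homCongr (Iso.refl _) t
  have e4 := homιShift M S' r
  exact ⟨e1.symm.trans (e2.trans (e3.trans e4))⟩

variable [Finite Λ] (κ : U ⟶ A) [IsOpenImmersion κ] (j : A ⟶ P) [IsOpenImmersion j] [IsNoetherian U]
  [IsNoetherian A] [IsNoetherian P]

/-- `Rκ_* N` and its dual, for `N` represented by a complex. -/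
theorem push_gen (hB : Bid (stdDual Λ A)) (N : Plus (EtModW.Mod Λ U)) (K : CochainComplex (EtModW.Mod Λ U) ℤ)
    (h1 : EtModD.IsDbc (Q.obj K)) (e : Nonempty (Plus.ι.obj N ≅ Q.obj K)) :
    EtModD.IsDbc (Plus.ι.obj ((EtDl.pushPlus Λ κ).obj N)) ∧
    ∀ q : ℤ, Nonempty ((Plus.ι.obj ((EtDl.pushPlus Λ κ).obj N) ⟶
        ((singleFunctor _ 0).obj (EtModW.constMod Λ A Λ))⟦q⟧) ≃
      ((singleFunctor _ 0).obj (EtModW.constMod Λ A Λ) ⟶ (Q.obj ((extC κ).obj ((stdDual Λ U).D K)))⟦q⟧)) := by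
  have hU : Bid (stdDual Λ U) := BidOpen.bid_open κ hB
  have h2 := hU.dbc _ h1
  obtain ⟨e1⟩ := e
  obtain ⟨e2⟩ := nonempty_Q_ev (stdDual Λ U) K (hU.refl _ h1)
  obtain ⟨⟨a, b, ha, hb⟩, -⟩ := h2
  have h4 := BidOpen.isDbc_ext κ _ (hU.dbc _ h1)
  refine ⟨?_, fun q => ?_⟩
  · obtain ⟨e3⟩ := K552.PushDual.nonempty_push_D κ _ b hb N (e1 ≪≫ e2)
    exact BidIndD48.isDbc_of_iso e3.symm (hB.dbc _ h4)
  · exact K552.PushDual.nonempty_hom_push κ _ b hb N (e1 ≪≫ e2) (hB.refl _ h4) q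

/-- `Rκ_* κ^* F` and its dual. -/
theorem push_data (hB : Bid (stdDual Λ A)) (F : EtModW.Mod Λ A) (hF : EtModW.IsConstructible Λ F) :
    EtModD.IsDbc (Plus.ι.obj ((EtDl.pushPlus Λ κ).obj ((Plus.singleFunctor _ 0).obj ((EtModW.pull Λ κ).obj F)))) ∧
    ∀ q : ℤ, Nonempty ((Plus.ι.obj ((EtDl.pushPlus Λ κ).obj ((Plus.singleFunctor _ 0).obj
        ((EtModW.pull Λ κ).obj F))) ⟶ ((singleFunctor _ 0).obj (EtModW.constMod Λ A Λ))⟦q⟧) ≃
      ((singleFunctor _ 0).obj (EtModW.constMod Λ A Λ) ⟶ (Q.obj ((extC κ).obj ((stdDual Λ U).D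
        ((CochainComplex.singleFunctor _ 0).obj ((EtModW.pull Λ κ).obj F)))))⟦q⟧)) := by
  refine push_gen κ hB _ _ ?_ ?_
  · exact tr (fun X => EtModD.IsDbc (Q.obj X)) ((Dbc323.isDbc_Q_single_iff ((EtModW.pull Λ κ).obj F) 0).2
      (Etcore.LCrit.isConstructible_pull κ F hF)) rfl
  · exact tr (fun X => Nonempty (Plus.ι.obj ((Plus.singleFunctor _ 0).obj ((EtModW.pull Λ κ).obj F)) ≅ Q.obj X))
      (nonempty_single_Q ((EtModW.pull Λ κ).obj F) 0) rfl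

/-- **Duality for `j_! Rκ_* κ^* F`.** -/
theorem subsingleton_Z (hB : Bid (stdDual Λ P)) (Z : EtModW.Mod Λ P) {n : ℕ} (e c : ℤ)
    (G : GData (stdDual Λ P) n ((CochainComplex.singleFunctor _ 0).obj Z) e c)
    (F : EtModW.Mod Λ A) (hF : EtModW.IsConstructible Λ F) (r : ℤ)
    (h : Subsingleton ((singleFunctor _ 0).obj (EtModW.constMod Λ A Λ) ⟶ (Q.obj ((extC κ).obj ((stdDual Λ U).D
        ((CochainComplex.singleFunctor _ 0).obj ((EtModW.pull Λ κ).obj F)))))⟦e + c - r⟧)) :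
    Subsingleton ((singleFunctor _ 0).obj Z ⟶ (Plus.ι.obj ((EtDl.extZeroPlus Λ j).obj
      ((EtDl.pushPlus Λ κ).obj ((Plus.singleFunctor _ 0).obj ((EtModW.pull Λ κ).obj F)))))⟦r⟧) := by
  have hA : Bid (stdDual Λ A) := BidOpen.bid_open j hB
  obtain ⟨h1, h2⟩ := push_data κ hA F hF
  generalize (EtDl.pushPlus Λ κ).obj ((Plus.singleFunctor _ 0).obj ((EtModW.pull Λ κ).obj F)) = M at h1 h2 ⊢
  obtain ⟨e2⟩ := h2 (e + c - r)
  obtain ⟨E, ⟨eE⟩⟩ := PlusHom.exists_complex' M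
  obtain ⟨e3⟩ := PlusHom.nonempty_exact (ext Λ j) E M eE
  have h3 : EtModD.IsDbc (Q.obj ((extC j).obj E.obj)) :=
    BidOpen.isDbc_ext j _ (BidIndD48.isDbc_of_iso eE.symm h1)
  obtain ⟨e4⟩ := nonempty_hom_ext j M (e + c - r)
  have s0 : Subsingleton (Plus.ι.obj M ⟶ ((singleFunctor _ 0).obj (EtModW.constMod Λ A Λ))⟦e + c - r⟧) :=
    e2.subsingleton
  have s1 : Subsingleton (Plus.ι.obj ((ext Λ j).rightDerivedFunctorPlus.obj M) ⟶
      ((singleFunctor _ 0).obj (EtModW.constMod Λ P Λ))⟦e + c - r⟧) := e4.subsingleton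
  have s2 : Subsingleton (Q.obj ((extC j).obj E.obj) ⟶
      ((singleFunctor _ 0).obj (EtModW.constMod Λ P Λ))⟦e + c - r⟧) :=
    (Iso.homCongr e3.symm (Iso.refl _)).subsingleton
  have h5 := G.t1 _ h3 (e + c - r)
  rw [Nat.card_unique, show e + c - (e + c - r) = r by ring] at h5
  have s3 : Subsingleton (Q.obj ((CochainComplex.singleFunctor _ 0).obj Z) ⟶ (Q.obj ((extC j).obj E.obj))⟦r⟧) :=
    (Nat.card_eq_one_iff_unique.1 h5.symm).1
  have e6 : (singleFunctor (EtModW.Mod Λ P) 0).obj Z ≅ Q.obj ((CochainComplex.singleFunctor _ 0).obj Z) :=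
    (singleFunctorIsoCompQ _ 0).app Z
  exact (Iso.homCongr e6 ((shiftFunctor _ r).mapIso e3)).subsingleton

end K482.PSide
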