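import Groth.Agent.EtDepth.K482.Punct
import Groth.Agent.EtDepth.K482.PlusHom

/-!
# `H^i(S', Rf_! M)` over the complement `S'` of the closed point of a henselian local scheme

* `isZero_pull_RshriekPlus`: `t^* Rf_! M = 0` if the images of `t` and `f` are disjoint;
* `nonempty_restrict`: `Rf_! M ≅ ι^* Rp_* j_! Ra_* M` for `f ≫ ι = a ≫ j ≫ p`, `ι` a monomorphism;
* `subsingleton_of_P`: `H^i(S', Rf_! M) = 0` if `Hom(p^* t_* Λ, (j_! Ra_* M)[i + 1]) = 0`.
-/

set_option autoImplicit false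
universe u

open CategoryTheory CategoryTheory.Limits AlgebraicGeometry Opposite

attribute [local instance] HasDerivedCategory.standard

namespace K482.Red

open Groth.Agent Groth.Agent.Sga4h Groth.Agent.Etdl.H424 K973.PushAbs K593.IndepPlus K593.BCPlus

variable (Λ : Type (u + 1)) [CommRing Λ]

theorem isPullback_mono {C : Type*} [Category* C] {Y W X : C} (g : Y ⟶ W) (o : W ⟶ X) [Mono o] :
    IsPullback (𝟙 Y) g (g ≫ o) o :=
  IsPullback.of_isLimit' ⟨by simp⟩ (PullbackCone.IsLimit.mk _ (fun s => s.fst) (fun s => Category.comp_id _)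
    (fun s => by rw [← cancel_mono o, Category.assoc, s.condition])
    (fun s m h _ => by rw [← h, Category.comp_id]))

theorem isZero_mod_of_isEmpty {X : Scheme.{u}} [IsEmpty X] (F : EtModW.Mod Λ X) : IsZero F :=
  LFinSupp.ZeroOff.isZero fun U _ x _ => IsEmpty.elim (α := X) inferInstance (U.hom x)

/-- The base change of a compactification. -/
noncomputable def bcC {X S X' S' : Scheme.{u}} {f : X ⟶ S} {f' : X' ⟶ S'} {g : S' ⟶ S} {g' : X' ⟶ X} (h : IsPullback g' f' f g)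
    (c : DEt.Compactification f) : DEt.Compactification f' where
  Xbar := pullback c.fbar g
  j := pullback.lift (g' ≫ c.j) f' (by rw [Category.assoc, c.fac, h.w])
  fbar := pullback.snd c.fbar g
  isOpenImmersion := by
    have hi2 : pullback.lift (g' ≫ c.j) f' (by rw [Category.assoc, c.fac, h.w]) ≫ pullback.snd c.fbar g = f' :=
      pullback.lift_snd _ _ _
    have sq1 : IsPullback g' (pullback.lift (g' ≫ c.j) f' (by rw [Category.assoc, c.fac, h.w])) c.j
        (pullback.fst c.fbar g) :=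
      IsPullback.of_bot (by rw [hi2, c.fac]; exact h) (pullback.lift_fst _ _ _).symm (IsPullback.of_hasPullback _ _)
    exact MorphismProperty.of_isPullback sq1 (inferInstance : IsOpenImmersion c.j)
  isProper := inferInstance
  fac := pullback.lift_snd _ _ _

section

variable {L S Z : Scheme.{u}} {f : L ⟶ S} [QuasiCompact f] (c : DEt.Compactification f) (t : Z ⟶ S)
  (n : ℕ) (hn : 0 < n) (hΛ : (n : Λ) = 0)

include hn hΛ in
/-- `t^* Rf_! M = 0` if the images of `t` and `f` are disjoint. -/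
theorem isZero_pull_RshriekPlus (hd : ∀ x z, f x ≠ t z) (M : DerivedCategory.Plus (EtModW.Mod Λ L)) :
    IsZero ((EtDl.pullPlus Λ t).obj ((EtDl.RshriekPlus Λ c).obj M)) := by
  have : IsEmpty ↥(pullback f t) := ⟨fun x => hd (pullback.fst f t x) (pullback.snd f t x) (by
    rw [← Scheme.Hom.comp_apply, pullback.condition, Scheme.Hom.comp_apply])⟩
  let c' := bcC (IsPullback.of_hasPullback f t) c
  obtain ⟨e⟩ := nonempty_baseChange Λ (IsPullback.of_hasPullback f t) c c' n hn hΛ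
  refine IsZero.of_iso ?_ (e.app M)
  exact (EtDl.pushPlus Λ c'.fbar).map_isZero ((EtDl.extZeroPlus Λ c'.j).map_isZero
    (PlusHom.isZero_plus _ fun p => isZero_mod_of_isEmpty _ _))

end

section

variable {L S S' A P : Scheme.{u}} {f : L ⟶ S'} (c : DEt.Compactification f) (ι : S' ⟶ S) [Mono ι]
  (a : L ⟶ A) [IsFinite a] (j : A ⟶ P) [IsOpenImmersion j] [QuasiCompact j] [CompactSpace P] [QuasiSeparatedSpace P]
  (p : P ⟶ S) [IsProper p] (w : a ≫ j ≫ p = f ≫ ι) [QuasiCompact f]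
  (n : ℕ) (hn : 0 < n) (hΛ : (n : Λ) = 0)

include hn hΛ w in
/-- `Rf_! M ≅ ι^* Rp_* j_! Ra_* M`, and `t^* Rp_* j_! Ra_* M = 0` for `t` disjoint from the image of `ι`. -/
theorem nonempty_restrict (M : DerivedCategory.Plus (EtModW.Mod Λ L)) :
    Nonempty ((EtDl.RshriekPlus Λ c).obj M ≅ (EtDl.pullPlus Λ ι).obj ((EtDl.pushPlus Λ p).obj
      ((EtDl.extZeroPlus Λ j).obj ((EtDl.pushPlus Λ a).obj M)))) ∧
    ∀ {Z : Scheme.{u}} (t : Z ⟶ S), (∀ x z, (f ≫ ι) x ≠ t z) → IsZero ((EtDl.pullPlus Λ t).obj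
      ((EtDl.pushPlus Λ p).obj ((EtDl.extZeroPlus Λ j).obj ((EtDl.pushPlus Λ a).obj M)))) := by
  obtain ⟨Xb, k, b, hk, hb, sq⟩ := Sga5.FinShriek.exists_compactification j a
  have hqc : QuasiCompact (f ≫ ι) := by
    rw [← w]
    infer_instance
  let c' : DEt.Compactification (f ≫ ι) :=
    { Xbar := Xb, j := k, fbar := b ≫ p, isOpenImmersion := hk, isProper := inferInstance,
      fac := by rw [← w, ← Category.assoc, sq.w, Category.assoc] }
  obtain ⟨e1⟩ := Shriek.nonempty_RshriekPlus Λ c' a j p w n hn hΛ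
  obtain ⟨e2⟩ := nonempty_baseChange Λ (isPullback_mono f ι) c' c n hn hΛ
  obtain ⟨e3⟩ := PlusHom.nonempty_id (EtModW.pull Λ (𝟙 L)) (Etcore.LPullComp.pullId Λ L) M
  refine ⟨⟨((EtDl.RshriekPlus Λ c).mapIso e3).symm ≪≫ (e2.app M).symm ≪≫
    (EtDl.pullPlus Λ ι).mapIso (e1.app M)⟩, fun t ht => ?_⟩
  exact (isZero_pull_RshriekPlus Λ c' t n hn hΛ ht M).of_iso ((EtDl.pullPlus Λ t).mapIso (e1.app M).symm)

end

section local_

open DerivedCategory

variable {Λ} {R : Type u} [CommRing R] [HenselianLocalRing R] {Z : Scheme.{u}} (t : Z ⟶ Spec (CommRingCat.of R))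
  [IsClosedImmersion t] (g : Spec (CommRingCat.of (IsLocalRing.ResidueField R)) ⟶ Z)
  (hg : g ≫ t = Spec.map (CommRingCat.ofHom (IsLocalRing.residue R)))
  {L S' A P : Scheme.{u}} {f : L ⟶ S'} (c : DEt.Compactification f) (ι : S' ⟶ Spec (CommRingCat.of R))
  [IsOpenImmersion ι] (hι : Set.range ι = (Set.range t)ᶜ)
  (a : L ⟶ A) [IsFinite a] (j : A ⟶ P) [IsOpenImmersion j] [QuasiCompact j] [CompactSpace P] [QuasiSeparatedSpace P]
  (p : P ⟶ Spec (CommRingCat.of R)) [IsProper p] (w : a ≫ j ≫ p = f ≫ ι) [QuasiCompact f]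
  (n : ℕ) (hn : 0 < n) (hΛ : (n : Λ) = 0)

include hg hι w hn hΛ in
/-- `H^i(S', Rf_! M) = 0` if `Hom(p^* t_* Λ, (j_! Ra_* M)[i + 1]) = 0`. -/
theorem subsingleton_of_P (M : Plus (EtModW.Mod Λ L)) (i : ℤ)
    (h : Subsingleton ((singleFunctor _ 0).obj ((EtModW.pull Λ p).obj ((EtModW.push Λ t).obj
      (EtModW.constMod Λ Z Λ))) ⟶ (Plus.ι.obj ((EtDl.extZeroPlus Λ j).obj ((EtDl.pushPlus Λ a).obj M)))⟦i + 1⟧)) :
    Subsingleton ((Plus.singleFunctor _ 0).obj (EtModW.constMod Λ S' Λ) ⟶ ((EtDl.RshriekPlus Λ c).obj M)⟦i⟧) := by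
  obtain ⟨⟨e⟩, hz⟩ := nonempty_restrict Λ c ι a j p w n hn hΛ M
  generalize hK : (EtDl.extZeroPlus Λ j).obj ((EtDl.pushPlus Λ a).obj M) = K at h e hz
  have hz' := hz t (fun x z hx => by
    have h1 : ι (f x) ∈ (Set.range t)ᶜ := by
      rw [← hι]
      exact ⟨_, rfl⟩
    exact h1 ⟨z, by rw [← hx, Scheme.Hom.comp_apply]⟩)
  obtain ⟨b, hb⟩ := ((EtDl.pushPlus Λ p).obj K).property
  have hb' : (Plus.ι.obj ((EtDl.pushPlus Λ p).obj K)).IsGE b := hb
  have s1 := Punct.subsingleton_local (Λ := Λ) t g hg (Plus.ι.obj ((EtDl.pushPlus Λ p).obj K)) b (fun q => by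
    obtain ⟨e1⟩ := PlusHom.nonempty_homology_exact (EtModW.pull Λ t) ((EtDl.pushPlus Λ p).obj K) q
    exact ((homologyFunctor _ q).map_isZero (Plus.ι.map_isZero hz')).of_iso e1.symm) i
  obtain ⟨e2⟩ := nonempty_equiv_left (EtModW.push Λ p) (EtModW.pull Λ p) (EtDl.pullPushModAdj Λ p) K
    ((EtModW.push Λ t).obj (EtModW.constMod Λ Z Λ)) (i + 1)
  have s2 := Punct.subsingleton_open ι t hι ((EtDl.pushPlus Λ p).obj K) i s1 e2.subsingleton
  exact (Iso.homCongr (Iso.refl _) ((shiftFunctor _ i).mapIso e)).subsingleton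

end local_

end K482.Red
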