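import Groth.Agent.EtDepth.K482.DualBd
import Groth.Agent.EtDepth.K482.PSide
import Groth.Agent.EtDepth.K482.Red
import Groth.Agent.EtDepth.K973.CoreStmt
import Groth.Agent.Sga4h.BidGeoCmp

/-!
# `NodeCore`: the vanishing theorem over the punctured spectra of power series rings
-/

set_option autoImplicit false
universe u

open CategoryTheory CategoryTheory.Limits AlgebraicGeometry Opposite

attribute [local instance 5000] CategoryTheory.Abelian.toPreadditive
  CategoryTheory.Preadditive.preadditiveHasZeroMorphisms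

namespace K482.EtCore

attribute [local instance] HasDerivedCategory.standard
open scoped Groth.Agent.Sga4h.ModInst
open Groth.Agent Groth.Agent.Sga4h Groth.Agent.Sga4h.Refl Groth.Agent.Sga4h.ModRestr
  Groth.Agent.Sga4h.BidRed538Main Groth.Agent.Sga4h.BidIndLoc48 K552.OrthD DerivedCategory
  Groth.Agent.Sga4h.EtPts K973.Stmt K813.Emb Groth.Agent.Etdl.H434.Defs Groth.Agent.Sga4h.BidGeoIt
  Groth.Agent.EtDual.K336.BidStep K482.DualBd

section geo

variable (M : ℕ) (K : Type u) [Field K]

/-- The closed point of `Spec K[[x_1, …, x_M]]`. -/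
noncomputable abbrev tp : Spec (CommRingCat.of K) ⟶ SP M K :=
  Spec.map (CommRingCat.ofHom (MvPowerSeries.constantCoeff (σ := Fin M) (R := K)))

instance : IsClosedImmersion (tp M K) :=
  IsClosedImmersion.spec_of_surjective _ (fun x => ⟨MvPowerSeries.C x, MvPowerSeries.constantCoeff_C x⟩)

/-- The inverse of the residue map. -/
noncomputable def gp : Spec (CommRingCat.of (IsLocalRing.ResidueField (MvPowerSeries (Fin M) K))) ⟶
    Spec (CommRingCat.of K) :=
  Spec.map (CommRingCat.ofHom (algebraMap K (IsLocalRing.ResidueField (MvPowerSeries (Fin M) K))))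

theorem gp_tp : gp M K ≫ tp M K = Spec.map (CommRingCat.ofHom (IsLocalRing.residue (MvPowerSeries (Fin M) K))) := by
  rw [gp, ← Spec.map_comp]
  congr 1
  ext y
  change algebraMap K (IsLocalRing.ResidueField (MvPowerSeries (Fin M) K)) (MvPowerSeries.constantCoeff y) =
    IsLocalRing.residue _ y
  have h1 : algebraMap K (IsLocalRing.ResidueField (MvPowerSeries (Fin M) K)) (MvPowerSeries.constantCoeff y) =
      IsLocalRing.residue _ (MvPowerSeries.C (MvPowerSeries.constantCoeff y)) := rfl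
  rw [h1, ← sub_eq_zero, ← map_sub, IsLocalRing.residue_eq_zero_iff, IsLocalRing.mem_maximalIdeal, mem_nonunits_iff,
    MvPowerSeries.isUnit_iff_constantCoeff, map_sub, MvPowerSeries.constantCoeff_C, sub_self]
  exact not_isUnit_zero

theorem tp_apply (z : Spec (CommRingCat.of K)) :
    tp M K z = IsLocalRing.closedPoint (MvPowerSeries (Fin M) K) := by
  have hφ : Function.Surjective (MvPowerSeries.constantCoeff (σ := Fin M) (R := K)) :=
    fun x => ⟨MvPowerSeries.C x, MvPowerSeries.constantCoeff_C x⟩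
  have hl : IsLocalHom (MvPowerSeries.constantCoeff (σ := Fin M) (R := K)) := IsLocalHom.of_surjective _ hφ
  have h1 : PrimeSpectrum.comap (MvPowerSeries.constantCoeff (σ := Fin M) (R := K)) (IsLocalRing.closedPoint K) =
      IsLocalRing.closedPoint (MvPowerSeries (Fin M) K) := IsLocalRing.comap_closedPoint _
  have h2 : z = IsLocalRing.closedPoint K := Subsingleton.elim (α := PrimeSpectrum K) _ _
  rw [h2]
  exact h1

theorem range_ι : Set.range (FEt.puncturedSpec (MvPowerSeries (Fin M) K)).ι = (Set.range (tp M K))ᶜ := by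
  rw [Scheme.Opens.range_ι]
  ext x
  have h1 : x ∈ Set.range (tp M K) ↔ x = IsLocalRing.closedPoint (MvPowerSeries (Fin M) K) := by
    constructor
    · rintro ⟨z, rfl⟩
      exact tp_apply M K z
    · intro h
      exact ⟨IsLocalRing.closedPoint K, (tp_apply M K _).trans h.symm⟩
  change x ∈ ({IsLocalRing.closedPoint (MvPowerSeries (Fin M) K)}ᶜ : Set (PrimeSpectrum _)) ↔ x ∉ Set.range (tp M K)
  rw [h1]
  rfl

theorem isNoetherian_It (N : ℕ) : IsNoetherian (It (SP M K) N) := by
  have := isNoetherian_SP M K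
  have := isProper_str (SP M K) N
  exact Groth.Agent.Sga4h.GcGen.isNoetherian_of_ft (str (SP M K) N)

end geo

section core

variable {Λ : Type (u + 1)} [CommRing Λ] [Finite Λ] {m : ℕ} (hm : 0 < m) (hΛ : (m : Λ) = 0) {M : ℕ}
  {K : Type u} [Field K] [IsAlgClosed K] [CharZero K] (hArt : NodeArt.{u})
  (hB : ∀ N : ℕ, Bid (stdDual Λ (It (SP M K) N)))
  (hG : ∀ N : ℕ, GData (stdDual Λ (It (SP M K) N)) m ((CochainComplex.singleFunctor _ 0).obj
    ((EtModW.pull Λ (str (SP M K) N)).obj ((EtModW.push Λ (tp M K)).obj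
      (EtModW.constMod Λ (Spec (CommRingCat.of K)) Λ)))) (2 * N) (2 * M))
  (hS : ∀ N : ℕ, SB Λ (AN M N K))

include hm hΛ hArt hB hG hS in
theorem core {L : Scheme.{u}} [IsAffine L] (f : L ⟶ (FEt.puncturedSpec (MvPowerSeries (Fin M) K) : Scheme.{u}))
    [LocallyOfFiniteType f] (c : DEt.Compactification f) (W : L.Opens) (G : EtModW.Mod Λ L)
    (hGc : EtModW.IsConstructible Λ G) (n : ℕ) (hd : DepthOn ((EtModD.forgetToAb Λ L).obj G) W n)
    (k : ℤ) (hk : k < n) :
    Subsingleton ((Plus.singleFunctor _ 0).obj (EtModW.constMod Λ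
      (FEt.puncturedSpec (MvPowerSeries (Fin M) K) : Scheme.{u}) Λ) ⟶ ((EtDl.RshriekPlus Λ c).obj
        ((EtDl.pushPlus Λ W.ι).obj ((Plus.singleFunctor _ 0).obj ((EtModW.pull Λ W.ι).obj G))))⟦k⟧) := by
  obtain ⟨N, i, hi, w⟩ := exists_emb f
  obtain ⟨U, rfl, -⟩ := Shriek.exists_opens i W
  have hNA := isNoetherian_AN M K N
  have hNP := isNoetherian_It M K N
  have hNU : IsNoetherian U.toScheme := Groth.Agent.Sga4h.GcGen.isNoetherian_of_ft U.ι
  have hp := isProper_str (SP M K) N
  let j : AN M N K ⟶ It (SP M K) N := Sga4B.IterP1.aff (SP M K) N ≫ (BidGeoCmp.isoP (SP M K) N).inv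
  have hj : j ≫ str (SP M K) N = anStr M N K := by
    rw [Category.assoc, BidGeoCmp.isoP_inv_str, Sga4B.IterP1.aff_toBase]
  have hF := isConstructible_push i G hGc
  have hA := BidOpen.bid_open j (hB N)
  have hU := BidOpen.bid_open U.ι hA
  have h1 := Etcore.LCrit.isConstructible_pull U.ι _ hF
  have h2 := fun h => subsingleton_dual i w hm hΛ hArt (hS N) U G hGc n hd h (2 * N + 2 * M - (k + 1)) (by omega)
  have h3 := h2 (BidOpen.isDbc_ext U.ι _ (hU.dbc _ (PSide.tr (fun X => EtModD.IsDbc (Q.obj X))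
    ((Dbc323.isDbc_Q_single_iff _ 0).2 h1) rfl)))
  have h4 := PSide.subsingleton_Z U.ι j (hB N) _ (2 * N) (2 * M) (hG N) _ hF (k + 1) h3
  have sq : IsPullback (i ⁻¹ᵁ U).ι (i ∣_ U) i U.ι := (isPullback_morphismRestrict i U).flip
  obtain ⟨e⟩ := Shriek.nonempty_push_openPush Λ (i ⁻¹ᵁ U).ι i (i ∣_ U) U.ι sq G
  have := Etdl.H428.PowSer.henselian K M
  refine Red.subsingleton_of_P (tp M K) (gp M K) (gp_tp M K) c _ (range_ι M K) i j (str (SP M K) N)
    (by rw [hj]; exact w) m hm hΛ _ k ?_
  exact (Iso.homCongr (Iso.refl _) ((shiftFunctor _ (k + 1)).mapIso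
    (Plus.ι.mapIso ((EtDl.extZeroPlus Λ j).mapIso e)))).subsingleton

end core

end K482.EtCore
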