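import Groth.Agent.EtDepth.K482.Shriek
import Groth.Agent.EtDepth.K973.PushAbs
import Groth.Agent.Sga4h.H299.Exc
import Groth.Agent.Sga4h.LFinClass
import Groth.Agent.Sga4A.HensClosed2

/-!
# Cohomology on the complement of the closed point of a henselian local scheme

* `subsingleton_open`: `Hom(Λ, M[i]) = 0` and `Hom(b_* Λ, M[i + 1]) = 0` imply `H^i(U, j^* M) = 0` for `j` open, `b` closed,
  complementary;
* `subsingleton_local`: `H^i(S, M) = 0` for `S` local henselian and the cohomology sheaves of `M` zero at the closed point.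
-/

set_option autoImplicit false
universe w' v' u' u

open CategoryTheory CategoryTheory.Limits AlgebraicGeometry Opposite

attribute [local instance] HasDerivedCategory.standard

namespace K482.Punct

open Groth.Agent Groth.Agent.Sga4h Groth.Agent.Etdl.H424 K973.PushAbs
open Groth.Agent.Etrest.ModAb Groth.Agent.Sga4h.ModRestr Groth.Agent.Sga4h.EtaleRes Groth.Agent.Etdl.H424.ModLift

attribute [local instance] jCont

section abs

open DerivedCategory Pretriangulated

variable {C : Type u'} [Category.{v'} C] [Abelian C] [HasDerivedCategory.{w'} C]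

/-- `Hom(X₁, Y[i]) = 0` from `Hom(X₂, Y[i]) = 0` and `Hom(X₃, Y[i + 1]) = 0` for a short exact sequence. -/
theorem subsingleton_X₁ {S : ShortComplex C} (hS : S.ShortExact) (Y : DerivedCategory C) (i : ℤ)
    (h1 : Subsingleton ((singleFunctor C 0).obj S.X₂ ⟶ Y⟦i⟧))
    (h2 : Subsingleton ((singleFunctor C 0).obj S.X₃ ⟶ Y⟦i + 1⟧)) :
    Subsingleton ((singleFunctor C 0).obj S.X₁ ⟶ Y⟦i⟧) := by
  have hT := hS.singleTriangle_distinguished
  refine subsingleton_of_forall_eq 0 fun f => ?_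
  have s3 : Subsingleton ((singleFunctor C 0).obj S.X₃ ⟶ (Y⟦i⟧)⟦(1 : ℤ)⟧) :=
    (Iso.homCongr (Iso.refl _) ((shiftFunctorAdd (DerivedCategory C) i 1).symm.app Y)).subsingleton
  have s2 : Subsingleton (((singleFunctor C 0).obj S.X₂)⟦(1 : ℤ)⟧ ⟶ (Y⟦i⟧)⟦(1 : ℤ)⟧) :=
    (Functor.FullyFaithful.ofFullyFaithful (shiftFunctor (DerivedCategory C) (1 : ℤ))).homEquiv.symm.subsingleton
  obtain ⟨g, hg⟩ := Triangle.yoneda_exact₃ _ (rot_of_distTriang _ hT) (f⟦(1 : ℤ)⟧') (s3.elim _ _)
  apply (shiftFunctor (DerivedCategory C) (1 : ℤ)).map_injective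
  have key : g = 0 := s2.elim g 0
  refine hg.trans ?_
  rw [key, Functor.map_zero]
  exact comp_zero

end abs

variable {Λ : Type (u + 1)} [CommRing Λ]

section exc

open DerivedCategory Pretriangulated

variable {U X Z : Scheme.{u}} (j : U ⟶ X) [IsOpenImmersion j] (b : Z ⟶ X) [IsClosedImmersion b]
  (hr : Set.range j = (Set.range b)ᶜ)

include hr in
/-- `H^i(U, j^* M) = 0` if `Hom(Λ, M[i]) = 0` and `Hom(b_* Λ, M[i + 1]) = 0`. -/
theorem subsingleton_open (M : Plus (EtModW.Mod Λ X)) (i : ℤ)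
    (h1 : Subsingleton ((singleFunctor _ 0).obj (EtModW.constMod Λ X Λ) ⟶ (Plus.ι.obj M)⟦i⟧))
    (h2 : Subsingleton ((singleFunctor _ 0).obj ((EtModW.push Λ b).obj (EtModW.constMod Λ Z Λ)) ⟶
      (Plus.ι.obj M)⟦i + 1⟧)) :
    Subsingleton ((Plus.singleFunctor _ 0).obj (EtModW.constMod Λ U Λ) ⟶ ((EtDl.pullPlus Λ j).obj M)⟦i⟧) := by
  have hS := LFinSupp.closedSeq_shortExact b (EtModW.constMod Λ X Λ)
  obtain ⟨e1⟩ := H299.Exc.nonempty_closedSeq_iso j b hr (EtModW.constMod Λ X Λ)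
  obtain ⟨e2⟩ := LFinClass.nonempty_pull_constMod (Λ := Λ) (M := Λ) j
  obtain ⟨e3⟩ := LFinClass.nonempty_pull_constMod (Λ := Λ) (M := Λ) b
  have s3 : Subsingleton ((singleFunctor _ 0).obj (LFinSupp.closedSeq b (EtModW.constMod Λ X Λ)).X₃ ⟶
      (Plus.ι.obj M)⟦i + 1⟧) :=
    (Iso.homCongr ((singleFunctor _ 0).mapIso ((EtModW.push Λ b).mapIso e3.symm)).symm (Iso.refl _)).subsingleton
  have s1 := subsingleton_X₁ hS (Plus.ι.obj M) i h1 s3
  have s1' : Subsingleton ((singleFunctor _ 0).obj ((ext Λ j).obj (EtModW.constMod Λ U Λ)) ⟶ (Plus.ι.obj M)⟦i⟧) :=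
    (Iso.homCongr ((singleFunctor _ 0).mapIso (e1 ≪≫ (ext Λ j).mapIso e2)).symm (Iso.refl _)).subsingleton
  obtain ⟨e4⟩ := nonempty_equiv_left (res Λ j) (ext Λ j) (extResAdj Λ j) M (EtModW.constMod Λ U Λ) i
  let e5 := homιShift ((Plus.singleFunctor _ 0).obj (EtModW.constMod Λ U Λ))
    ((res Λ j).rightDerivedFunctorPlus.obj M) i
  let e6 : (EtDl.pullPlus Λ j).obj M ≅ (res Λ j).rightDerivedFunctorPlus.obj M :=
    (PlusAdj.natIso (pullResIso Λ j)).app M
  have s4 : Subsingleton ((Plus.singleFunctor _ 0).obj (EtModW.constMod Λ U Λ) ⟶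
      ((res Λ j).rightDerivedFunctorPlus.obj M)⟦i⟧) := (e5.trans e4).subsingleton
  exact (Iso.homCongr (Iso.refl _) ((shiftFunctor _ i).mapIso e6)).subsingleton

end exc

section local_

open DerivedCategory

/-- `H^i(S, M) = 0` for `S` local henselian and the cohomology sheaves of `M` zero at the closed point. -/
theorem subsingleton_local {A : Type u} [CommRing A] [HenselianLocalRing A] {Z : Scheme.{u}}
    (t : Z ⟶ Spec (CommRingCat.of A)) (g : Spec (CommRingCat.of (IsLocalRing.ResidueField A)) ⟶ Z)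
    (hg : g ≫ t = Spec.map (CommRingCat.ofHom (IsLocalRing.residue A)))
    (M : DerivedCategory (EtModW.Mod Λ (Spec (CommRingCat.of A)))) (a : ℤ) [M.IsGE a]
    (h : ∀ p : ℤ, IsZero ((EtModW.pull Λ t).obj ((homologyFunctor _ p).obj M))) (i : ℤ) :
    Subsingleton ((singleFunctor _ 0).obj (EtModW.constMod Λ (Spec (CommRingCat.of A)) Λ) ⟶ M⟦i⟧) := by
  refine Shriek.subsingleton_const Λ M a i fun p q _ => ?_
  refine Sga4A.HensClosed.H_subsingleton_of_isZero _ ?_ q
  have h1 : IsZero ((EtModW.pull Λ (Spec.map (CommRingCat.ofHom (IsLocalRing.residue A)))).obj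
      ((homologyFunctor _ p).obj M)) := by
    rw [← hg]
    exact ((EtModW.pull Λ g).map_isZero (h p)).of_iso
      ((Etcore.LPullComp.pullComp Λ g t).symm.app ((homologyFunctor _ p).obj M))
  exact ((ab Λ _).map_isZero h1).of_iso ((pullIso Λ _).symm.app ((homologyFunctor _ p).obj M))

end local_

end K482.Punct
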